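import Mathlib
import Cfsg.Agent.Lib.Characters.Integrality

/-!
# Galois conjugation of character values
-/

set_option autoImplicit false
set_option linter.unusedSectionVars false

namespace Cfsg.Lib.Characters

open scoped IntermediateField ComplexConjugate
open IntermediateField

variable {n : ℕ} {ζ : ℂ}

theorem pow_mem_adjoin_root (ζ : ℂ) (i : ℕ) : ζ ^ i ∈ ℚ⟮ζ⟯ :=
  pow_mem (mem_adjoin_simple_self ℚ ζ) i

theorem root_mem_adjoin [NeZero n] (hζ : IsPrimitiveRoot ζ n) {μ : ℂ} (hμ : μ ^ n = 1) :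
    μ ∈ ℚ⟮ζ⟯ := by
  obtain ⟨i, -, rfl⟩ := hζ.eq_pow_of_pow_eq_one hμ
  exact pow_mem_adjoin_root ζ i

theorem exists_galois_hom [NeZero n] (hζ : IsPrimitiveRoot ζ n) {k : ℕ} (hk : k.Coprime n) :
    ∃ φ : ℚ⟮ζ⟯ →ₐ[ℚ] ℂ, φ (AdjoinSimple.gen ℚ ζ) = ζ ^ k := by
  have hint : ∀ s ∈ ({ζ} : Set ℂ), IsIntegral ℚ s ∧
      ((minpoly ℚ s).map (algebraMap ℚ ℂ)).Splits := by
    rintro s rfl
    exact ⟨(hζ.isIntegral (NeZero.pos n)).tower_top, IsAlgClosed.splits _⟩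
  have hr : Polynomial.aeval (ζ ^ k) (minpoly ℚ ζ) = 0 := by
    rw [← Polynomial.cyclotomic_eq_minpoly_rat hζ (NeZero.pos n),
      Polynomial.cyclotomic_eq_minpoly_rat (hζ.pow_of_coprime k hk) (NeZero.pos n)]
    exact minpoly.aeval ℚ _
  exact exists_algHom_adjoin_of_splits_of_aeval hint (mem_adjoin_simple_self ℚ ζ) hr

theorem galois_hom_gen [NeZero n] (hζ : IsPrimitiveRoot ζ n) (φ : ℚ⟮ζ⟯ →ₐ[ℚ] ℂ) :
    ∃ k : ℕ, k.Coprime n ∧ φ (AdjoinSimple.gen ℚ ζ) = ζ ^ k := by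
  have hg : IsPrimitiveRoot (AdjoinSimple.gen ℚ ζ) n := by
    refine IsPrimitiveRoot.of_map_of_injective (f := ℚ⟮ζ⟯.val) ?_ ℚ⟮ζ⟯.val.injective
    exact hζ
  have h := hg.map_of_injective φ.injective
  obtain ⟨k, -, hk, hk'⟩ := (hζ.isPrimitiveRoot_iff).mp h
  exact ⟨k, hk, hk'.symm⟩

/-- A number all of whose conjugates are equal to itself is rational. -/
theorem rat_of_fixed [NeZero n] (hζ : IsPrimitiveRoot ζ n) (z : ℚ⟮ζ⟯)
    (h : ∀ φ : ℚ⟮ζ⟯ →ₐ[ℚ] ℂ, φ z = z) : ∃ q : ℚ, (z : ℂ) = q := by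
  have hint : ∀ s ∈ ({ζ} : Set ℂ), IsIntegral ℚ s ∧
      ((minpoly ℚ s).map (algebraMap ℚ ℂ)).Splits := by
    rintro s rfl
    exact ⟨(hζ.isIntegral (NeZero.pos n)).tower_top, IsAlgClosed.splits _⟩
  haveI : FiniteDimensional ℚ ℚ⟮ζ⟯ :=
    adjoin.finiteDimensional ((hζ.isIntegral (NeZero.pos n)).tower_top)
  have hz : IsIntegral ℚ (z : ℂ) := (IsIntegral.of_finite ℚ z).map ℚ⟮ζ⟯.val
  set P := (minpoly ℚ (z : ℂ)).map (algebraMap ℚ ℂ) with hP
  have hmon : P.Monic := (minpoly.monic hz).map _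
  have hroot : ∀ r ∈ P.roots, r = (z : ℂ) := by
    intro r hr
    have hr' : Polynomial.aeval r (minpoly ℚ (z : ℂ)) = 0 := by
      rw [Polynomial.mem_roots hmon.ne_zero, Polynomial.IsRoot, hP, Polynomial.eval_map] at hr
      exact hr
    obtain ⟨φ, hφ⟩ := exists_algHom_adjoin_of_splits_of_aeval hint z.2 hr'
    rw [← hφ]
    exact h φ
  have hnd : P.roots.Nodup := Polynomial.nodup_roots (minpoly.irreducible hz).separable.map
  have hcard : P.roots.card ≤ 1 := by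
    rw [← Multiset.toFinset_card_of_nodup hnd, Finset.card_le_one]
    intro a ha b hb
    rw [hroot a (Multiset.mem_toFinset.mp ha), hroot b (Multiset.mem_toFinset.mp hb)]
  rw [← (IsAlgClosed.splits P).natDegree_eq_card_roots, hP, Polynomial.natDegree_map] at hcard
  have hdeg : (minpoly ℚ (z : ℂ)).degree = 1 := by
    rw [Polynomial.degree_eq_natDegree (minpoly.ne_zero hz)]
    have := minpoly.natDegree_pos hz
    norm_cast; omega
  obtain ⟨q, hq⟩ := minpoly.degree_eq_one_iff.mp hdeg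
  exact ⟨q, hq.symm⟩

variable {G : Type*} [Group G] [Finite G]

/-- Character values lie in the cyclotomic field, and conjugation acts by powering. -/
theorem char_galois [NeZero n] (hζ : IsPrimitiveRoot ζ n) {χ : G → ℂ} (hχ : IsCharacter G χ)
    {g : G} (hg : g ^ n = 1) : ∃ z : ℚ⟮ζ⟯, (z : ℂ) = χ g ∧
      ∀ (φ : ℚ⟮ζ⟯ →ₐ[ℚ] ℂ) (k : ℕ), φ (AdjoinSimple.gen ℚ ζ) = ζ ^ k → φ z = χ (g ^ k) := by
  obtain ⟨m, ρ, rfl⟩ := hχ
  obtain ⟨μ, hμ, -, hk, -⟩ := exists_eigenvalues ρ g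
  have hμn : ∀ i, μ i ^ n = 1 := fun i => by
    obtain ⟨c, hc⟩ := orderOf_dvd_of_pow_eq_one hg
    rw [hc, pow_mul, hμ i, one_pow]
  choose e he he' using fun i => hζ.eq_pow_of_pow_eq_one (hμn i)
  refine ⟨∑ i, AdjoinSimple.gen ℚ ζ ^ e i, ?_, fun φ k hφ => ?_⟩
  · rw [← pow_one g, hk 1]
    simp only [pow_one, IntermediateField.coe_sum, SubmonoidClass.coe_pow, AdjoinSimple.coe_gen]
    exact Finset.sum_congr rfl fun i _ => he' i
  · rw [map_sum, hk k]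
    refine Finset.sum_congr rfl fun i _ => ?_
    rw [map_pow, hφ, ← he' i, ← pow_mul, ← pow_mul, mul_comm]

/-- A character value fixed by all powerings prime to the group order is rational. -/
theorem char_rat_of_pow {χ : G → ℂ} (hχ : IsCharacter G χ) (g : G)
    (h : ∀ k : ℕ, k.Coprime (Nat.card G) → χ (g ^ k) = χ g) : ∃ q : ℚ, χ g = q := by
  haveI : NeZero (Nat.card G) := ⟨Nat.card_pos.ne'⟩
  have hζ := Complex.isPrimitiveRoot_exp (Nat.card G) Nat.card_pos.ne'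
  obtain ⟨z, hz, hφ⟩ := char_galois hζ hχ (g := g) pow_card_eq_one'
  obtain ⟨q, hq⟩ := rat_of_fixed hζ z fun φ => by
    obtain ⟨k, hk, hk'⟩ := galois_hom_gen hζ φ
    rw [hφ φ k hk', h k hk, hz]
  exact ⟨q, hz ▸ hq⟩

/-- A rational character value is invariant under powering prime to the group order. -/
theorem char_pow_of_rat {χ : G → ℂ} (hχ : IsCharacter G χ) (g : G) {k : ℕ}
    (hk : k.Coprime (Nat.card G)) (h : ∃ q : ℚ, χ g = q) : χ (g ^ k) = χ g := by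
  haveI : NeZero (Nat.card G) := ⟨Nat.card_pos.ne'⟩
  have hζ := Complex.isPrimitiveRoot_exp (Nat.card G) Nat.card_pos.ne'
  obtain ⟨z, hz, hφ⟩ := char_galois hζ hχ (g := g) pow_card_eq_one'
  obtain ⟨φ, hφk⟩ := exists_galois_hom hζ hk
  obtain ⟨q, hq⟩ := h
  rw [← hφ φ k hφk, hq]
  have : z = algebraMap ℚ ℚ⟮_⟯ q := Subtype.ext (by rw [hz, hq]; rfl)
  rw [this, AlgHom.commutes]
  rfl

end Cfsg.Lib.Characters
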