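import Mathlib
import Cfsg.Agent.Lib.Characters.Brauer

/-!
# Composition of characters with powering prime to the group order
-/

set_option autoImplicit false
set_option linter.unusedSectionVars false

namespace Cfsg.Lib.Characters

open scoped ComplexConjugate

universe u

variable {G : Type u} [Group G] [Fintype G]

theorem pow_mem_iff_of_coprime {m : ℕ} (hm : (Nat.card G).Coprime m) (E : Subgroup G) (y : G) :
    y ^ m ∈ E ↔ y ∈ E := by
  refine ⟨fun h => ?_, fun h => E.pow_mem h m⟩
  have h1 : (Subgroup.zpowers (y ^ m)) = Subgroup.zpowers y := by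
    refine Subgroup.eq_of_le_of_card_ge
      (Subgroup.zpowers_le.mpr (Subgroup.pow_mem _ (Subgroup.mem_zpowers y) m)) ?_
    rw [Nat.card_zpowers, Nat.card_zpowers,
      Nat.Coprime.orderOf_pow ((hm.coprime_dvd_left (orderOf_dvd_natCard y)))]
  exact (Subgroup.zpowers_le.mpr h) (h1 ▸ Subgroup.mem_zpowers y)

theorem isGeneralized_comp_pow {χ : G → ℂ} (hχ : IsCharacter G χ) {m : ℕ}
    (hm : (Nat.card G).Coprime m) : IsGeneralizedCharacter G fun g => χ (g ^ m) := by
  classical
  let S : AddSubgroup (G → ℂ) :=
    { carrier := {f | IsGeneralizedCharacter G fun g => f (g ^ m)}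
      zero_mem' := isGeneralized_of_isCharacter isCharacter_zero
      add_mem' := fun {a b} ha hb => isGeneralized_add ha hb
      neg_mem' := fun {a} ha => isGeneralized_neg ha }
  refine brauer_monomial hχ S fun E _ lam => ?_
  show IsGeneralizedCharacter G fun g => indFun E (fun e => (lam e : ℂ)) (g ^ m)
  have he : (fun g => indFun E (fun e => (lam e : ℂ)) (g ^ m)) =
      indFun E fun e => ((lam ^ m) e : ℂ) := by
    funext g
    simp only [indFun]
    congr 1
    refine Finset.sum_congr rfl fun x _ => ?_
    have hx : x⁻¹ * g ^ m * x = (x⁻¹ * g * x) ^ m := by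
      have h := conj_pow (i := m) (a := x⁻¹) (b := g)
      rw [inv_inv] at h
      exact h.symm
    rw [hx]
    by_cases hy : x⁻¹ * g * x ∈ E
    · rw [extendByZero_mem _ hy, extendByZero_mem _ (E.pow_mem hy m)]
      rw [MonoidHom.pow_apply, ← map_pow]
      rfl
    · rw [extendByZero_not_mem _ hy,
        extendByZero_not_mem _ (fun h => hy ((pow_mem_iff_of_coprime hm E _).mp h))]
  rw [he]
  exact isGeneralized_indFun E (isGeneralized_of_isCharacter (isIrrCharacter_linear (lam ^ m)).isCharacter)

theorem isIrrCharacter_comp_pow {χ : G → ℂ} (hχ : IsIrrCharacter G χ) {m : ℕ}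
    (hm : (Nat.card G).Coprime m) : IsIrrCharacter G fun g => χ (g ^ m) := by
  have hnorm : classInner (fun g => χ (g ^ m)) (fun g => χ (g ^ m)) = 1 := by
    rw [← classInner_irr_self hχ]
    simp only [classInner]
    congr 1
    exact Fintype.sum_equiv (powCoprime hm) _ _ fun g => rfl
  rcases isGeneralized_norm_one (isGeneralized_comp_pow hχ.isCharacter hm) hnorm with h | h
  · exact h
  · exfalso
    obtain ⟨d, hd, hd1⟩ := h.exists_degree_pos
    obtain ⟨e, he, he1⟩ := hχ.exists_degree_pos
    first
      | (simp only [Pi.neg_apply, one_pow] at hd he1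
         have h2 : ((d + e : ℕ) : ℂ) = 0 := by push_cast; linear_combination -hd - he1
         have h3 : d + e = 0 := by exact_mod_cast h2
         omega)
      | (simp only [Pi.neg_apply, one_pow] at hd1 he1
         have h2 : ((d + e : ℕ) : ℂ) = 0 := by push_cast; linear_combination -hd1 - he1
         have h3 : d + e = 0 := by exact_mod_cast h2
         omega)

theorem isCharacter_comp_pow {χ : G → ℂ} (hχ : IsCharacter G χ) {m : ℕ}
    (hm : (Nat.card G).Coprime m) : IsCharacter G fun g => χ (g ^ m) := by
  obtain ⟨k, hk⟩ := exists_decomposition hχ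
  have he : (fun g => χ (g ^ m)) =
      ∑ ψ : IrrCharacter G, (k ψ : ℂ) • fun g : G => (ψ : G → ℂ) (g ^ m) := by
    funext g
    simp [hk]
  rw [he]
  exact isCharacter_sum _ _ fun ψ _ => isCharacter_nsmul (isIrrCharacter_comp_pow ψ.2 hm).isCharacter _

end Cfsg.Lib.Characters
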