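import Cfsg.Agent.Lib.Characters.Extension
import Cfsg.Agent.Lib.Characters.Brauer

/-!
# Induction from a normal subgroup with abelian quotient of the inertia group
-/

set_option linter.unusedSectionVars false
set_option linter.style.haveILetI false

open scoped ComplexConjugate

namespace Cfsg.Lib.Characters

variable {T : Type*} [Group T] [Fintype T] {H : Subgroup T} [H.Normal] [Fintype H]

theorem isIrrCharacter_mul_linear {G : Type*} [Group G] [Finite G] {χ : G → ℂ}
    (h : IsIrrCharacter G χ) {β : G → ℂ} (hβ : IsCharacter G β) (h1 : β 1 = 1) :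
    IsIrrCharacter G (β * χ) := by
  haveI := Fintype.ofFinite G
  obtain ⟨l, rfl⟩ := exists_hom_of_degree_one hβ h1
  refine isIrrCharacter_iff.mpr ⟨isCharacter_mul hβ h.isCharacter, ?_⟩
  rw [← classInner_irr_self h, classInner, classInner]
  congr 1
  refine Finset.sum_congr rfl fun g _ => ?_
  have hn : (l g : ℂ) * conj (l g : ℂ) = 1 := by
    rw [← char_inv_eq_conj hβ g, map_inv, ← Units.val_mul, mul_inv_cancel, Units.val_one]
  rw [Pi.mul_apply, map_mul]
  linear_combination (χ g * conj (χ g)) * hn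

/-- A constituent of the permutation character on an abelian quotient is linear. -/
theorem linear_of_constituent_abelian (hab : ∀ x y : T, x * y * x⁻¹ * y⁻¹ ∈ H) {β : T → ℂ}
    (hβ : IsIrrCharacter T β) (hne : classInner (indFun H fun _ => 1) β ≠ 0) : β 1 = 1 := by
  classical
  rw [classInner_indFun H _ hβ.isClassFunction] at hne
  have hne' : classInner (fun n : H => β n) (fun _ => 1) ≠ 0 := by
    rw [← conj_classInner]; simpa using hne
  have horb : orbitFinset H (fun _ : H => (1 : ℂ)) = {fun _ => 1} := by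
    ext ψ
    rw [mem_orbitFinset, Finset.mem_singleton]
    exact ⟨fun ⟨g, hg⟩ => hg, fun h => ⟨1, h⟩⟩
  have hres := clifford hβ isIrrCharacter_one hne'
  rw [horb, Finset.sum_singleton] at hres
  have hker : ∀ n ∈ H, β n = β 1 := fun n hn => by
    have h1 := congrFun hres ⟨n, hn⟩
    have h2 := congrFun hres 1
    simp only [Pi.smul_apply] at h1 h2
    exact h1.trans h2.symm
  obtain ⟨ψ, -, hψ, hψβ⟩ := exists_of_quotient hβ.isCharacter hker
  haveI : IsMulCommutative (T ⧸ H) := ⟨⟨fun a b => by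
    induction a using QuotientGroup.induction_on with
    | H x =>
      induction b using QuotientGroup.induction_on with
      | H y =>
        rw [← QuotientGroup.mk_mul, ← QuotientGroup.mk_mul, QuotientGroup.eq]
        have := hab y⁻¹ x⁻¹
        rw [inv_inv, inv_inv] at this
        rwa [mul_inv_rev, ← mul_assoc]⟩⟩
  rw [← hψβ 1, QuotientGroup.mk_one]
  exact degree_one_of_isMulCommutative (hψ hβ)

/-- If the quotient by `H` is abelian, the constituents of a character induced from an invariant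
irreducible character of `H` occur with a common multiplicity `e`, which is also their multiplicity
over `θ`. -/
theorem indFun_abelian_invariant (hab : ∀ x y : T, x * y * x⁻¹ * y⁻¹ ∈ H) {θ : H → ℂ}
    (hθ : IsIrrCharacter H θ) (hinv : ∀ g, conjFn H θ g = θ) :
    ∃ (e : ℕ) (C : Finset (T → ℂ)), 0 < e ∧
      (∀ χ ∈ C, IsIrrCharacter T χ ∧ classInner (fun h : H => χ h) θ = e) ∧
      e ^ 2 * C.card = H.index ∧ indFun H θ = (e : ℂ) • ∑ χ ∈ C, χ ∧
      (∀ χ ∈ C, χ 1 = e * θ 1) ∧
      ∀ η : T → ℂ, IsIrrCharacter T η → (∀ h : H, η h = θ h) → e = 1 := by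
  classical
  set f := indFun H θ
  have hf : IsCharacter T f := isCharacter_indFun H hθ.isCharacter
  have hf1 : f 1 ≠ 0 := by
    rw [show f 1 = _ from indFun_one_apply H θ]
    exact mul_ne_zero (Nat.cast_ne_zero.mpr Subgroup.index_ne_zero_of_finite) hθ.one_ne_zero
  obtain ⟨ψ₀, hψ₀, hne₀⟩ := exists_constituent hf hf1
  have hres : ∀ ψ : T → ℂ, IsIrrCharacter T ψ → classInner f ψ ≠ 0 →
      ∃ e : ℕ, (fun h : H => ψ h) = (e : ℂ) • θ ∧ classInner f ψ = e := by
    intro ψ hψ hne
    rw [classInner_indFun H _ hψ.isClassFunction] at hne ⊢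
    have hne' : classInner (fun h : H => ψ h) θ ≠ 0 := by
      rw [← conj_classInner]; simpa using hne
    obtain ⟨e, he, -⟩ := multiplicity_dvd_index hθ hinv hψ hne'
    refine ⟨e, he, ?_⟩
    rw [he, classInner_smul_right, classInner_irr_self hθ, map_natCast, mul_one]
  obtain ⟨e, he, hec⟩ := hres ψ₀ hψ₀ hne₀
  have he0 : 0 < e := Nat.pos_of_ne_zero fun h => hne₀ (by rw [hec, h, Nat.cast_zero])
  have hcommon : ∀ ψ : T → ℂ, IsIrrCharacter T ψ → classInner f ψ ≠ 0 →
      (fun h : H => ψ h) = (e : ℂ) • θ ∧ classInner f ψ = e := by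
    intro ψ hψ hne
    obtain ⟨e', he', hec'⟩ := hres ψ hψ hne
    suffices ψ 1 = ψ₀ 1 by
      have h1 := congrFun he' 1
      have h2 := congrFun he 1
      simp only [Pi.smul_apply, smul_eq_mul, OneMemClass.coe_one, this] at h1 h2
      have : (e' : ℂ) = e := mul_right_cancel₀ hθ.one_ne_zero (h1.symm.trans h2)
      rw [Nat.cast_inj] at this
      subst this
      exact ⟨he', hec'⟩
    have hmul : classInner (indFun H (fun _ => 1) * ψ₀) ψ ≠ 0 := by
      rw [indFun_mul H _ hψ₀.isClassFunction, classInner_indFun H _ hψ.isClassFunction, he']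
      have : (fun h : H => (1 : ℂ) * ψ₀ h) = (e : ℂ) • θ := by rw [← he]; simp
      rw [this, classInner_smul_left, classInner_smul_right, classInner_irr_self hθ]
      simp only [map_natCast, mul_one, ne_eq, mul_eq_zero, Nat.cast_eq_zero, not_or]
      exact ⟨he0.ne', fun h => hne (by rw [hec', h, Nat.cast_zero])⟩
    obtain ⟨m, hm⟩ := exists_decomposition (isCharacter_indFun H isCharacter_one)
    rw [hm, Finset.sum_mul, classInner_sum_left] at hmul
    obtain ⟨β, -, hβ⟩ := Finset.exists_ne_zero_of_sum_ne_zero hmul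
    rw [smul_mul_assoc, classInner_smul_left] at hβ
    have hβ1 : (β : T → ℂ) 1 = 1 := by
      refine linear_of_constituent_abelian hab β.2 ?_
      rw [hm, classInner_sum_irr]
      exact left_ne_zero_of_mul hβ
    have hirr := isIrrCharacter_mul_linear hψ₀ β.2.isCharacter hβ1
    have heq : (β : T → ℂ) * ψ₀ = ψ := by
      by_contra h
      exact right_ne_zero_of_mul hβ (classInner_irr_ne hirr hψ h)
    rw [← heq, Pi.mul_apply, hβ1, one_mul]
  set C := (Finset.univ.filter fun χ : IrrCharacter T => classInner f χ.1 ≠ 0).image Subtype.val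
    with hC
  have hmemC : ∀ χ, χ ∈ C ↔ IsIrrCharacter T χ ∧ classInner f χ ≠ 0 := by
    intro χ
    simp only [hC, Finset.mem_image, Finset.mem_filter, Finset.mem_univ, true_and]
    exact ⟨fun ⟨x, hx, he⟩ => he ▸ ⟨x.2, hx⟩, fun ⟨h1, h2⟩ => ⟨⟨χ, h1⟩, h2, rfl⟩⟩
  refine ⟨e, C, he0, fun χ hχ => ?_, ?_, ?_, fun χ hχ => ?_, ?_⟩
  · obtain ⟨h1, h2⟩ := (hmemC χ).mp hχ
    refine ⟨h1, ?_⟩
    rw [(hcommon χ h1 h2).1, classInner_smul_left, classInner_irr_self hθ, mul_one]
  · have hnorm := classInner_indFun_self_of_invariant hθ hinv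
    rw [classInner_eq_sum (isClassFunction_of_isCharacter hf)] at hnorm
    have hterm : ∀ χ : IrrCharacter T, classInner f χ.1 * classInner χ.1 f =
        if classInner f χ.1 ≠ 0 then ((e : ℂ) ^ 2) else 0 := by
      intro χ
      rw [← conj_classInner f χ.1]
      split_ifs with h
      · rw [(hcommon χ.1 χ.2 h).2, map_natCast, sq]
      · rw [not_not.mp h]; simp
    rw [Finset.sum_congr rfl fun χ _ => hterm χ, ← Finset.sum_filter, Finset.sum_const,
      nsmul_eq_mul] at hnorm
    have hcard : C.card = (Finset.univ.filter fun χ : IrrCharacter T =>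
        classInner f χ.1 ≠ 0).card := Finset.card_image_of_injective _ Subtype.val_injective
    rw [← @Nat.cast_inj ℂ, Nat.cast_mul, Nat.cast_pow, hcard, mul_comm]
    exact hnorm
  · rw [hC, Finset.sum_image fun a _ b _ h => Subtype.val_injective h, Finset.smul_sum]
    conv_lhs => rw [classFunction_expansion (isClassFunction_of_isCharacter hf)]
    rw [Finset.sum_filter]
    refine Finset.sum_congr rfl fun χ _ => ?_
    split_ifs with h
    · rw [(hcommon χ.1 χ.2 h).2]
    · rw [not_not.mp h, zero_smul]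
  · obtain ⟨h1, h2⟩ := (hmemC χ).mp hχ
    simpa using congrFun (hcommon χ h1 h2).1 1
  · intro η hη hηθ
    have hfun : (fun h : H => η h) = θ := funext hηθ
    have hne : classInner f η ≠ 0 := by
      rw [classInner_indFun H _ hη.isClassFunction, hfun, classInner_irr_self hθ]
      exact one_ne_zero
    have := (hcommon η hη hne).2
    rw [classInner_indFun H _ hη.isClassFunction, hfun, classInner_irr_self hθ] at this
    exact_mod_cast this.symm

/-- The transfer of `indFun_abelian_invariant` to the whole group through the inertia group. -/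
theorem indFun_abelian_inertia {G : Type*} [Group G] [Fintype G] (H T : Subgroup G) [H.Normal]
    {θ : H → ℂ} (hθ : IsIrrCharacter H θ) (hT : T = inertia H θ)
    (hab : ∀ x ∈ T, ∀ y ∈ T, x * y * x⁻¹ * y⁻¹ ∈ H) :
    ∃ (e : ℕ) (C : Finset (G → ℂ)), 0 < e ∧ (∀ χ ∈ C, IsIrrCharacter G χ) ∧
      e ^ 2 * C.card = H.relIndex T ∧ indFun H θ = (e : ℂ) • ∑ χ ∈ C, χ ∧
      (∀ χ ∈ C, χ 1 = (T.index : ℂ) * e * θ 1) ∧
      (Nat.Coprime (Nat.card H) (H.relIndex T) → e = 1) := by
  classical
  have hHT : H ≤ T := hT ▸ le_inertia hθ.isClassFunction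
  haveI := Fintype.ofFinite T
  haveI := Fintype.ofFinite H
  haveI : Fintype (H.subgroupOf T) := Fintype.ofFinite _
  set θ' : H.subgroupOf T → ℂ := fun x => θ ⟨(x : T), Subgroup.mem_subgroupOf.mp x.2⟩ with hθ'
  have hθ'irr : IsIrrCharacter (H.subgroupOf T) θ' :=
    isIrrCharacter_mulEquiv hθ (Subgroup.subgroupOfEquivOfLe hHT)
  have hinv : ∀ g : T, conjFn (H.subgroupOf T) θ' g = θ' := by
    intro g
    funext x
    have hg : conjFn H θ (g : G) = θ := mem_inertia.mp (hT ▸ g.2)
    have := congrFun hg ⟨(x : T), Subgroup.mem_subgroupOf.mp x.2⟩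
    simpa [hθ', conjFn] using this
  obtain ⟨e, C₀, he, hC₀, hcard, hind, hdeg, hext⟩ := indFun_abelian_invariant
    (T := T) (H := H.subgroupOf T) (θ := θ')
    (fun x y => Subgroup.mem_subgroupOf.mpr (hab x x.2 y y.2)) hθ'irr hinv
  have hne : ∀ ψ ∈ C₀, classInner (fun n : H => ψ ⟨(n : G), hHT n.2⟩) θ ≠ 0 := by
    intro ψ hψ
    have h := (hC₀ ψ hψ).2
    rw [← classInner_comp_equiv (Subgroup.subgroupOfEquivOfLe hHT).symm] at h
    intro h0
    refine he.ne' (Nat.cast_eq_zero.mp (h.symm.trans ?_))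
    convert h0 using 2 <;> rfl
  have hinj : Set.InjOn (indFun T) (C₀ : Set (T → ℂ)) := fun a ha b hb hab' =>
    ((indFun_of_mem_inertia hθ T hT hHT (hC₀ a ha).1 (hne a ha)).2 b (hC₀ b hb).1 (hne b hb)
      hab'.symm).symm
  refine ⟨e, C₀.image (indFun T), he, fun χ hχ => ?_, ?_, ?_, fun χ hχ => ?_, fun hcop => ?_⟩
  · obtain ⟨ψ, hψ, rfl⟩ := Finset.mem_image.mp hχ
    exact (indFun_of_mem_inertia hθ T hT hHT (hC₀ ψ hψ).1 (hne ψ hψ)).1
  · rw [Finset.card_image_of_injOn hinj]
    exact hcard
  · rw [Finset.sum_image hinj, ← indFun_trans H T hHT θ, ← hθ', hind, indFun_smul, indFun_sum]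
  · obtain ⟨ψ, hψ, rfl⟩ := Finset.mem_image.mp hχ
    rw [indFun_one_apply, hdeg ψ hψ, mul_assoc]
    congr 2
  · obtain ⟨d, hd⟩ := exists_degree hθ'irr.isCharacter
    have hcardH : Nat.card (H.subgroupOf T) = Nat.card H :=
      Nat.card_congr (Subgroup.subgroupOfEquivOfLe hHT).toEquiv
    have hdvd : d ∣ Nat.card H :=
      hcardH ▸ (degree_dvd_center_index hθ'irr hd).trans (Subgroup.index_dvd_card _)
    obtain ⟨D, hD, -⟩ := exists_detHom hθ'irr.isCharacter
    obtain ⟨η, hη, hηθ⟩ := exists_extension_of_coprime hθ'irr hinv hd (m := Nat.card H)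
      (fun n => by
        rw [← hD, ← Units.val_pow_eq_pow_val, ← map_pow,
          show n ^ Nat.card H = 1 by rw [← hcardH]; exact pow_card_eq_one', map_one, Units.val_one])
      (Nat.Coprime.mul_right (hcop.symm.coprime_dvd_right hdvd) hcop.symm)
    exact hext η hη hηθ

end Cfsg.Lib.Characters
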