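import Cfsg.Agent.Lib.Characters.Degree
import Cfsg.Agent.Lib.Characters.Brauer

/-!
# Gallagher's theorem and degrees over normal subgroups
-/

set_option linter.unusedSectionVars false
set_option linter.style.haveILetI false

universe u

open scoped ComplexConjugate

namespace Cfsg.Lib.Characters

section gallagher

variable {G : Type u} [Group G] [Fintype G]

theorem classInner_indFun_self_of_invariant {N : Subgroup G} [N.Normal] [Fintype N] {θ : N → ℂ}
    (hθ : IsIrrCharacter N θ) (hinv : ∀ g, conjFn N θ g = θ) :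
    classInner (indFun N θ) (indFun N θ) = (N.index : ℂ) := by
  rw [classInner_indFun_indFun hθ hθ, Nat.card_congr (Equiv.subtypeUnivEquiv hinv),
    ← Subgroup.card_mul_index N, Nat.cast_mul,
    mul_div_cancel_left₀ _ (Nat.cast_ne_zero.mpr Nat.card_pos.ne')]

/-- Gallagher's theorem. -/
theorem gallagher {N : Subgroup G} [N.Normal] {φ θ : N → ℂ} (hφ : IsIrrCharacter N φ)
    (hφinv : ∀ g, conjFn N φ g = φ) (hθinv : ∀ g, conjFn N θ g = θ)
    (hprod : IsIrrCharacter N (φ * θ)) {χ : G → ℂ} (hχ : IsIrrCharacter G χ)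
    (hext : ∀ n : N, χ n = θ n) :
    (∀ β : G → ℂ, IsIrrCharacter G β → classInner (indFun N φ) β ≠ 0 →
        IsIrrCharacter G (β * χ) ∧ classInner (indFun N (φ * θ)) (β * χ) ≠ 0) ∧
      (∀ β β' : G → ℂ, IsIrrCharacter G β → IsIrrCharacter G β' →
        classInner (indFun N φ) β ≠ 0 → classInner (indFun N φ) β' ≠ 0 →
          β * χ = β' * χ → β = β') ∧
      ∀ ψ : G → ℂ, IsIrrCharacter G ψ → classInner (indFun N (φ * θ)) ψ ≠ 0 →
        ∃ β : G → ℂ, IsIrrCharacter G β ∧ classInner (indFun N φ) β ≠ 0 ∧ β * χ = ψ := by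
  classical
  haveI := Fintype.ofFinite N
  obtain ⟨f, hf⟩ := exists_decomposition (isCharacter_indFun N hφ.isCharacter)
  have hcoef : ∀ β : IrrCharacter G, classInner (indFun N φ) (β : G → ℂ) = (f β : ℂ) := fun β => by
    rw [hf]; exact classInner_sum_irr _ β
  have hind : indFun N (φ * θ) = ∑ β : IrrCharacter G, (f β : ℂ) • ((β : G → ℂ) * χ) := by
    have : φ * θ = fun n : N => φ n * χ n := by funext n; simp [hext]
    rw [this, ← indFun_mul N φ hχ.isClassFunction, hf, Finset.sum_mul]
    simp only [smul_mul_assoc]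
  choose k hk using fun β β' : IrrCharacter G =>
    classInner_nat (isCharacter_mul β.2.isCharacter hχ.isCharacter)
      (isCharacter_mul β'.2.isCharacter hχ.isCharacter)
  have hkpos : ∀ β, 1 ≤ k β β := by
    intro β
    rw [Nat.one_le_iff_ne_zero]
    intro h0
    have := classInner_self_eq_zero (a := (β : G → ℂ) * χ) (by rw [hk, h0, Nat.cast_zero])
    exact mul_ne_zero β.2.one_ne_zero hχ.one_ne_zero (congrFun this 1)
  have hinv : ∀ g, conjFn N (φ * θ) g = φ * θ := fun g => by
    funext n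
    rw [Pi.mul_apply, conjFn_apply, Pi.mul_apply]
    exact congrArg₂ (· * ·) (congrFun (hφinv g) n) (congrFun (hθinv g) n)
  have h1 : classInner (indFun N φ) (indFun N φ) = ((∑ β, f β * f β : ℕ) : ℂ) := by
    conv_lhs => arg 2; rw [hf]
    rw [classInner_sum_right]
    push_cast
    refine Finset.sum_congr rfl fun β _ => ?_
    rw [classInner_smul_right, hcoef]
    simp
  have h2 : classInner (indFun N (φ * θ)) (indFun N (φ * θ)) =
      ((∑ β, ∑ β', f β * f β' * k β β' : ℕ) : ℂ) := by
    rw [hind, classInner_sum_left]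
    push_cast
    refine Finset.sum_congr rfl fun β _ => ?_
    rw [classInner_sum_right]
    refine Finset.sum_congr rfl fun β' _ => ?_
    rw [classInner_smul_left, classInner_smul_right, hk]
    simp [mul_assoc]
  have heq : ∑ β, f β * f β = ∑ β, ∑ β', f β * f β' * k β β' := by
    have : ((∑ β, f β * f β : ℕ) : ℂ) = ((∑ β, ∑ β', f β * f β' * k β β' : ℕ) : ℂ) := by
      rw [← h1, ← h2, classInner_indFun_self_of_invariant hφ hφinv,
        classInner_indFun_self_of_invariant hprod hinv]
    exact_mod_cast this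
  have hsum : ∀ β, ∑ β', f β * f β' * k β β' =
      f β * f β * k β β + ∑ β' ∈ Finset.univ.erase β, f β * f β' * k β β' := fun β =>
    (Finset.add_sum_erase _ _ (Finset.mem_univ β)).symm
  have hzero : ∀ β, f β ≠ 0 → k β β = 1 ∧ ∀ β', β' ≠ β → f β' ≠ 0 → k β β' = 0 := by
    intro β hβ
    have hterm : ∀ γ, f γ * f γ ≤ ∑ β', f γ * f β' * k γ β' := fun γ => by
      rw [hsum]
      exact le_add_right (Nat.le_mul_of_pos_right _ (hkpos γ))
    have := (Finset.sum_eq_sum_iff_of_le fun γ _ => hterm γ).mp heq β (Finset.mem_univ β)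
    rw [hsum] at this
    have hp : 0 < f β * f β := Nat.mul_pos (Nat.pos_of_ne_zero hβ) (Nat.pos_of_ne_zero hβ)
    have hge : f β * f β * 1 ≤ f β * f β * k β β := Nat.mul_le_mul_left _ (hkpos β)
    refine ⟨Nat.eq_of_mul_eq_mul_left hp (by omega), fun β' hne hβ' => ?_⟩
    have h0 : ∑ β' ∈ Finset.univ.erase β, f β * f β' * k β β' = 0 := by omega
    have := Finset.sum_eq_zero_iff.mp h0 β' (Finset.mem_erase.mpr ⟨hne, Finset.mem_univ _⟩)
    simpa [hβ, hβ'] using this
  have hirr : ∀ β : IrrCharacter G, f β ≠ 0 → IsIrrCharacter G ((β : G → ℂ) * χ) := fun β hβ =>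
    isIrrCharacter_of_classInner_eq_one (isCharacter_mul β.2.isCharacter hχ.isCharacter)
      (by rw [hk, (hzero β hβ).1, Nat.cast_one])
  have hmult : ∀ β : IrrCharacter G, f β ≠ 0 →
      classInner (indFun N (φ * θ)) ((β : G → ℂ) * χ) = (f β : ℂ) := by
    intro β hβ
    rw [hind, classInner_sum_left, Finset.sum_eq_single β]
    · rw [classInner_smul_left, classInner_irr_self (hirr β hβ), mul_one]
    · intro γ _ hne
      by_cases hγ : f γ = 0
      · simp [hγ, classInner_zero_left]
      · rw [classInner_smul_left, hk, (hzero γ hγ).2 β (Ne.symm hne) hβ, Nat.cast_zero, mul_zero]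
    · simp
  have hf0 : ∀ β : IrrCharacter G, classInner (indFun N φ) (β : G → ℂ) ≠ 0 → f β ≠ 0 :=
    fun β h h0 => h (by rw [hcoef, h0, Nat.cast_zero])
  refine ⟨fun β hβ hne => ⟨hirr ⟨β, hβ⟩ (hf0 ⟨β, hβ⟩ hne), ?_⟩, fun β β' hβ hβ' hne hne' he => ?_,
    fun ψ hψ hne => ?_⟩
  · have hb := hf0 ⟨β, hβ⟩ hne
    rw [hmult ⟨β, hβ⟩ hb]
    exact Nat.cast_ne_zero.mpr hb
  · by_contra hdiff
    have hb := hf0 ⟨β, hβ⟩ hne
    have h0 : (k ⟨β, hβ⟩ ⟨β', hβ'⟩ : ℂ) = 0 := by
      rw [(hzero ⟨β, hβ⟩ hb).2 ⟨β', hβ'⟩ (fun h => hdiff (congrArg Subtype.val h).symm)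
        (hf0 ⟨β', hβ'⟩ hne'), Nat.cast_zero]
    rw [← hk] at h0
    change classInner (β * χ) (β' * χ) = 0 at h0
    rw [← he, classInner_irr_self (hirr ⟨β, hβ⟩ hb)] at h0
    exact one_ne_zero h0
  · rw [hind, classInner_sum_left] at hne
    obtain ⟨β, -, hb⟩ := Finset.exists_ne_zero_of_sum_ne_zero hne
    rw [classInner_smul_left] at hb
    have hfb : f β ≠ 0 := Nat.cast_ne_zero.mp (left_ne_zero_of_mul hb)
    refine ⟨β, β.2, by rw [hcoef]; exact Nat.cast_ne_zero.mpr hfb, ?_⟩
    by_contra hdiff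
    exact right_ne_zero_of_mul hb (classInner_irr_ne (hirr β hfb) hψ hdiff)

end gallagher

/-- An invariant irreducible character of a normal subgroup extends to a finite central cover. -/
theorem exists_cover {G : Type u} [Group G] [Finite G] {N : Subgroup G} [N.Normal] {θ : N → ℂ}
    (hθ : IsIrrCharacter N θ) (hinv : ∀ g, conjFn N θ g = θ) :
    ∃ (Γ : Type u) (_ : Group Γ) (_ : Finite Γ) (π : Γ →* G) (ι : N →* Γ) (χV : Γ → ℂ),
      Function.Surjective π ∧ π.ker ≤ Subgroup.center Γ ∧ ι.range.Normal ∧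
        (∀ n, π (ι n) = n) ∧ IsIrrCharacter Γ χV ∧ ∀ n, χV (ι n) = θ n := by
  classical
  haveI := Fintype.ofFinite G
  haveI := Fintype.ofFinite N
  obtain ⟨d, ρ, hρ, rfl⟩ := hθ
  have hd : 0 < d := by
    rcases Nat.eq_zero_or_pos d with rfl | hd
    · exfalso
      have h := (isIrrCharacter_character ρ).one_ne_zero
      simp at h
    · exact hd
  let conjN : G → (N →* N) := fun g => (MulAut.conjNormal g).toMonoidHom
  have hU : ∀ g : G, ∃ U : (Module.End ℂ (Fin d → ℂ))ˣ, ∀ n : N,
      (U : Module.End ℂ (Fin d → ℂ)) * ρ n = ρ (MulAut.conjNormal g n) * U := by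
    intro g
    let σ : Representation ℂ N (Fin d → ℂ) := ρ.comp (conjN g)
    have hchar : σ.character = ρ.character := by
      have := hinv g
      rw [conjFn_eq_comp] at this
      exact this
    haveI : σ.IsIrreducible := by
      have h2 : σ.character = ρ.character := hchar
      have hne : classInner σ.character σ.character = 1 := by
        rw [h2]; exact classInner_irr_self (isIrrCharacter_character ρ)
      rw [classInner_character, Nat.cast_eq_one] at hne
      have hirr := isIrrCharacter_comp_surjective (isIrrCharacter_character ρ) (conjN g)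
        (MulAut.conjNormal g).surjective
      obtain ⟨m, τ, hτ, hτc⟩ := hirr
      have hmd : m = d := by
        have := congrFun hτc 1
        simpa using this
      subst hmd
      have hnz : classInner σ.character τ.character ≠ 0 := by
        rw [hτc]
        show classInner σ.character σ.character ≠ 0
        rw [classInner_character, hne]
        norm_num
      rw [classInner_character, Nat.cast_ne_zero] at hnz
      haveI : Nontrivial (Representation.IntertwiningMap τ σ) :=
        Module.nontrivial_of_finrank_pos (R := ℂ) (Nat.pos_of_ne_zero hnz)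
      obtain ⟨f, hf⟩ := exists_ne (0 : Representation.IntertwiningMap τ σ)
      have hfinj : Function.Injective f :=
        (Representation.IsIrreducible.injective_or_eq_zero f).resolve_right hf
      exact isIrreducible_of_linearEquiv
        (LinearEquiv.ofInjectiveEndo f.toLinearMap hfinj) fun t v => Representation.IntertwiningMap.isIntertwining _ _ f t v
    have hnz : classInner σ.character ρ.character ≠ 0 := by
      rw [hchar, classInner_irr_self (isIrrCharacter_character ρ)]
      exact one_ne_zero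
    rw [classInner_character, Nat.cast_ne_zero] at hnz
    haveI : Nontrivial (Representation.IntertwiningMap ρ σ) :=
      Module.nontrivial_of_finrank_pos (R := ℂ) (Nat.pos_of_ne_zero hnz)
    obtain ⟨f, hf⟩ := exists_ne (0 : Representation.IntertwiningMap ρ σ)
    have hfbij := (Representation.IsIrreducible.bijective_or_eq_zero f).resolve_right hf
    have hunit : IsUnit (f.toLinearMap : Module.End ℂ (Fin d → ℂ)) :=
      (Module.End.isUnit_iff _).mpr hfbij
    refine ⟨hunit.unit, fun n => LinearMap.ext fun v => ?_⟩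
    exact Representation.IntertwiningMap.isIntertwining _ _ f n v
  let P : Subgroup (G × (Module.End ℂ (Fin d → ℂ))ˣ) :=
    { carrier := {x | (∀ n : N, (x.2 : Module.End ℂ (Fin d → ℂ)) * ρ n =
          ρ (MulAut.conjNormal x.1 n) * x.2) ∧
        LinearMap.det (x.2 : Module.End ℂ (Fin d → ℂ)) ^ Nat.card G = 1}
      one_mem' := ⟨fun n => by simp, by simp⟩
      mul_mem' := by
        rintro ⟨g, U⟩ ⟨g', U'⟩ ⟨h1, h2⟩ ⟨h1', h2'⟩
        refine ⟨fun n => ?_, ?_⟩
        · simp only [Prod.mk_mul_mk, Units.val_mul, map_mul, MulAut.mul_apply] at *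
          rw [mul_assoc, h1', ← mul_assoc, h1, mul_assoc]
        · simp only [Prod.mk_mul_mk, Units.val_mul, map_mul, mul_pow] at *
          rw [h2, h2', one_mul]
      inv_mem' := by
        rintro ⟨g, U⟩ ⟨h1, h2⟩
        refine ⟨fun n => ?_, ?_⟩
        · have h := h1 (MulAut.conjNormal g⁻¹ n)
          rw [← MulAut.mul_apply, ← map_mul, mul_inv_cancel, map_one, MulAut.one_apply] at h
          simp only [Prod.inv_mk] at *
          rw [Units.inv_mul_eq_iff_eq_mul, ← mul_assoc, h, mul_assoc, Units.mul_inv, mul_one]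
        · have h3 : LinearMap.det ((U⁻¹ : (Module.End ℂ (Fin d → ℂ))ˣ) : Module.End ℂ (Fin d → ℂ)) *
              LinearMap.det (U : Module.End ℂ (Fin d → ℂ)) = 1 := by
            rw [← map_mul, Units.inv_mul, map_one]
          have h4 := congrArg (fun z => z ^ Nat.card G) h3
          simp only [mul_pow, one_pow] at h4 h2
          rw [h2, mul_one] at h4
          exact h4 }
  let π : P →* G := (MonoidHom.fst G (Module.End ℂ (Fin d → ℂ))ˣ).comp P.subtype
  have hdetN : ∀ n : N, LinearMap.det (ρ n) ^ Nat.card G = 1 := by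
    intro n
    rw [← map_pow, ← map_pow]
    have : n ^ Nat.card G = 1 := Subtype.ext (by
      rw [SubgroupClass.coe_pow]; exact pow_card_eq_one')
    rw [this, map_one, map_one]
  let u : N →* (Module.End ℂ (Fin d → ℂ))ˣ := ρ.toHomUnits
  have hιmem : ∀ n : N, ((n : G), u n) ∈ P := fun n => ⟨fun m => by
    show ρ n * ρ m = ρ _ * ρ n
    rw [← map_mul, ← map_mul]
    congr 1
    exact Subtype.ext (by simp [mul_assoc]), hdetN n⟩
  let ι : N →* P := ((N.subtype).prod u).codRestrict P hιmem
  -- the kernel consists of scalars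
  have hker : ∀ x : P, x.1.1 = 1 → ∃ c : ℂ,
      (x.1.2 : Module.End ℂ (Fin d → ℂ)) = c • LinearMap.id ∧ c ^ (d * Nat.card G) = 1 := by
    rintro ⟨⟨g, U⟩, h1, h2⟩ hg
    change g = 1 at hg
    subst hg
    obtain ⟨c, hc⟩ := schur_scalar ρ (U : Module.End ℂ (Fin d → ℂ)) fun n => by
      have := h1 n
      simp only [map_one, MulAut.one_apply] at this
      exact this
    refine ⟨c, hc, ?_⟩
    simp only [hc, LinearMap.det_smul, LinearMap.det_id, mul_one, Module.finrank_pi,
      Fintype.card_fin, ← pow_mul] at h2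
    exact h2
  haveI hfin : Finite P := by
    refine Finite.of_finite_univ (Set.Finite.of_finite_fibers π (Set.toFinite _) fun g _ => ?_)
    rcases Set.eq_empty_or_nonempty (Set.univ ∩ π ⁻¹' {g}) with h | ⟨x₀, -, hx₀⟩
    · rw [h]; exact Set.finite_empty
    haveI : Finite π.ker := by
      let f : π.ker → {c : ℂ // c ∈ ((Polynomial.nthRoots (d * Nat.card G) (1 : ℂ)).toFinset : Set ℂ)} :=
        fun x => ⟨(hker x.1 x.2).choose, by
          rw [Finset.mem_coe, Multiset.mem_toFinset,
            Polynomial.mem_nthRoots (Nat.mul_pos hd Nat.card_pos)]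
          exact (hker x.1 x.2).choose_spec.2⟩
      refine Finite.of_injective f fun x y hxy => ?_
      have hc : (hker x.1 x.2).choose = (hker y.1 y.2).choose := congrArg Subtype.val hxy
      refine Subtype.ext (Subtype.ext (Prod.ext ?_ (Units.ext ?_)))
      · exact (show x.1.1.1 = 1 from x.2).trans (show y.1.1.1 = 1 from y.2).symm
      · rw [(hker x.1 x.2).choose_spec.1, (hker y.1 y.2).choose_spec.1, hc]
    refine Set.Finite.subset (Set.finite_range fun z : π.ker => x₀ * (z : P)) ?_
    intro x hx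
    refine ⟨⟨x₀⁻¹ * x, ?_⟩, mul_inv_cancel_left x₀ x⟩
    rw [MonoidHom.mem_ker, map_mul, map_inv, show π x₀ = g from hx₀, show π x = g from hx.2,
      inv_mul_cancel]
  have hsurj : Function.Surjective π := by
    intro g
    obtain ⟨U, hU⟩ := hU g
    obtain ⟨c, hc⟩ := IsAlgClosed.exists_pow_nat_eq
      (LinearMap.det (U : Module.End ℂ (Fin d → ℂ)))⁻¹ hd
    have hdet : IsUnit (LinearMap.det (U : Module.End ℂ (Fin d → ℂ))) := U.isUnit.map _
    have hc0 : c ≠ 0 := by
      intro h0
      rw [h0, zero_pow hd.ne'] at hc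
      exact inv_ne_zero hdet.ne_zero hc.symm
    let cu : (Module.End ℂ (Fin d → ℂ))ˣ := Units.map (algebraMap ℂ (Module.End ℂ (Fin d → ℂ))).toMonoidHom (Units.mk0 c hc0)
    have hcu : (cu : Module.End ℂ (Fin d → ℂ)) = c • LinearMap.id := by
      show algebraMap ℂ (Module.End ℂ (Fin d → ℂ)) c = _
      rw [Algebra.algebraMap_eq_smul_one]; rfl
    refine ⟨⟨(g, cu * U), fun n => ?_, ?_⟩, rfl⟩
    · simp only [Units.val_mul, hcu]
      have : ∀ A : Module.End ℂ (Fin d → ℂ), (c • LinearMap.id) * A = c • A := fun A => by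
        ext v; simp
      rw [this, smul_mul_assoc, hU n, mul_smul_comm]
    · simp only [Units.val_mul, hcu, map_mul, LinearMap.det_smul, LinearMap.det_id, mul_one,
        Module.finrank_pi, Fintype.card_fin, hc]
      rw [inv_mul_cancel₀ hdet.ne_zero, one_pow]
  let R : Representation ℂ P (Fin d → ℂ) :=
    (Units.coeHom _).comp ((MonoidHom.snd G (Module.End ℂ (Fin d → ℂ))ˣ).comp P.subtype)
  have hres : ∀ n, R.character (ι n) = ρ.character n := fun n => rfl
  haveI := Fintype.ofFinite P
  have hRirr : IsIrrCharacter P R.character := by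
    obtain ⟨m, hm⟩ := exists_decomposition (isCharacter_character R)
    obtain ⟨ψ, hψ⟩ : ∃ ψ : IrrCharacter P, m ψ ≠ 0 := by
      by_contra hcon
      push Not at hcon
      have h1 := congrFun hm 1
      simp [hcon] at h1
      omega
    have hrest : ρ.character = ∑ φ : IrrCharacter P, (m φ : ℂ) • fun n => (φ : P → ℂ) (ι n) := by
      funext n
      have := congrFun hm (ι n)
      rw [hres] at this
      simpa [Finset.sum_apply] using this
    obtain ⟨e, he0, he⟩ := ψ.2.exists_degree_pos
    -- some irreducible constituent of the restriction of `ψ`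
    have hψc : IsCharacter N fun n => (ψ : P → ℂ) (ι n) := isCharacter_comp ψ.2.isCharacter ι
    obtain ⟨mm, hmm⟩ := exists_decomposition hψc
    obtain ⟨φ, hφ⟩ : ∃ φ : IrrCharacter N, mm φ ≠ 0 := by
      by_contra hcon
      push Not at hcon
      have h1 := congrFun hmm 1
      simp [hcon, he] at h1
      omega
    have hne : classInner (fun n => (ψ : P → ℂ) (ι n)) (φ : N → ℂ) ≠ 0 := by
      rw [hmm, classInner_sum_irr]
      simpa using hφ
    choose a ha using fun φ' : IrrCharacter P =>
      classInner_nat (isCharacter_comp φ'.2.isCharacter ι) φ.2.isCharacter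
    have hsumne : classInner ρ.character (φ : N → ℂ) ≠ 0 := by
      rw [hrest, classInner_sum_left]
      simp only [classInner_smul_left, ha]
      intro h0
      have h0' : ((∑ φ', m φ' * a φ' : ℕ) : ℂ) = 0 := by push_cast; exact h0
      have := Finset.sum_eq_zero_iff.mp (Nat.cast_eq_zero.mp h0') ψ (Finset.mem_univ _)
      rcases mul_eq_zero.mp this with h | h
      · exact hψ h
      · exact hne (by rw [ha ψ, h, Nat.cast_zero])
    have hφρ : (φ : N → ℂ) = ρ.character := by
      by_contra hdiff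
      exact hsumne (classInner_irr_ne (isIrrCharacter_character ρ) φ.2 (Ne.symm hdiff))
    have hRd : R.character 1 = (d : ℂ) := by simp
    have hψd : (d : ℕ) ≤ e := by
      refine (constituent_degree hψc φ.2 hne (d := e) (d' := d) ?_ ?_).1
      · rw [map_one, he]
      · rw [hφρ]; simp
    have hRψ : classInner R.character (ψ : P → ℂ) ≠ 0 := by
      rw [hm, classInner_sum_irr]; simpa using hψ
    obtain ⟨hle, heq⟩ := constituent_degree (isCharacter_character R) ψ.2 hRψ hRd he
    rw [heq (le_antisymm hψd hle)]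
    exact ψ.2
  refine ⟨P, inferInstance, hfin, π, ι, R.character, hsurj, ?_, ?_, fun n => rfl, hRirr, hres⟩
  · intro x hx
    rw [Subgroup.mem_center_iff]
    intro y
    obtain ⟨c, hc, -⟩ := hker x hx
    refine Subtype.ext (Prod.ext ?_ (Units.ext ?_))
    · show y.1.1 * x.1.1 = x.1.1 * y.1.1
      rw [show x.1.1 = 1 from hx, one_mul, mul_one]
    · show (y.1.2 : Module.End ℂ (Fin d → ℂ)) * x.1.2 = x.1.2 * y.1.2
      rw [hc]
      ext v
      simp
  · refine ⟨?_⟩
    rintro _ ⟨n, rfl⟩ x
    refine ⟨MulAut.conjNormal x.1.1 n, ?_⟩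
    refine Subtype.ext (Prod.ext ?_ (Units.ext ?_))
    · show ((MulAut.conjNormal x.1.1 n : N) : G) = x.1.1 * (n : G) * x.1.1⁻¹
      simp
    · show ρ (MulAut.conjNormal x.1.1 n) = (x.1.2 : Module.End ℂ (Fin d → ℂ)) * ρ n * _
      rw [x.2.1 n, mul_assoc]
      show _ = _ * ((x.1.2 : Module.End ℂ (Fin d → ℂ)) * ((x.1.2⁻¹ : (Module.End ℂ (Fin d → ℂ))ˣ) : Module.End ℂ (Fin d → ℂ)))
      rw [Units.mul_inv, mul_one]

section degree

variable {G : Type u} [Group G] [Fintype G]

/-- Over an invariant irreducible `θ` the multiplicity divides the index, and is one when the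
quotient is cyclic. -/
theorem multiplicity_dvd_index {N : Subgroup G} [N.Normal] [Fintype N] {θ : N → ℂ}
    (hθ : IsIrrCharacter N θ) (hinv : ∀ g, conjFn N θ g = θ) {χ : G → ℂ} (hχ : IsIrrCharacter G χ)
    (hne : classInner (fun n : N => χ n) θ ≠ 0) :
    ∃ e : ℕ, (fun n : N => χ n) = (e : ℂ) • θ ∧ e ∣ N.index ∧ (IsCyclic (G ⧸ N) → e = 1) := by
  classical
  obtain ⟨Γ, hgr, hfin, π, ι, χV, hsurj, hcent, hnorm, hπι, hirr, hres⟩ := exists_cover hθ hinv
  haveI := Fintype.ofFinite Γ
  haveI := hnorm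
  set N₀ := ι.range
  haveI := Fintype.ofFinite N₀
  have hιinj : Function.Injective ι := fun a b h => Subtype.ext (by rw [← hπι, ← hπι, h])
  let eN : N ≃* N₀ := MonoidHom.ofInjective hιinj
  let θ₀ : N₀ → ℂ := fun x => θ (eN.symm x)
  have hθ₀ : IsIrrCharacter N₀ θ₀ := isIrrCharacter_mulEquiv hθ eN.symm
  have hext : ∀ x : N₀, χV x = θ₀ x := by
    intro x
    obtain ⟨n, rfl⟩ := eN.surjective x
    simp only [θ₀, MulEquiv.symm_apply_apply]
    exact hres n
  have hθ₀inv : ∀ g, conjFn N₀ θ₀ g = θ₀ := by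
    intro g
    funext x
    rw [conjFn_apply, ← hext, ← hext]
    exact hirr.isClassFunction _ _
  have hone : IsIrrCharacter N₀ fun _ => (1 : ℂ) := isIrrCharacter_one
  have honeinv : ∀ g, conjFn N₀ (fun _ => (1 : ℂ)) g = fun _ => 1 := fun g => rfl
  have hmul : (fun _ : N₀ => (1 : ℂ)) * θ₀ = θ₀ := by funext x; simp
  have hχ' : IsIrrCharacter Γ fun x => χ (π x) := isIrrCharacter_comp_surjective hχ π hsurj
  have hcon : classInner (indFun N₀ ((fun _ : N₀ => (1 : ℂ)) * θ₀)) (fun x => χ (π x)) ≠ 0 := by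
    rw [hmul, classInner_indFun N₀ θ₀ hχ'.isClassFunction, ← conj_classInner,
      ← classInner_comp_equiv eN (fun x : N₀ => χ (π x)) θ₀]
    intro h0
    apply hne
    have h1 := (map_eq_zero (starRingEnd ℂ)).mp h0
    rw [← h1]
    congr 1
    · funext n
      show χ n = χ (π (eN n : Γ))
      rw [show ((eN n : N₀) : Γ) = ι n from rfl, hπι]
    · funext n
      simp [θ₀]
  obtain ⟨-, -, hsur⟩ := gallagher hone honeinv hθ₀inv (by rw [hmul]; exact hθ₀) hirr hext
  obtain ⟨β, hβ, hβne, hβχ⟩ := hsur _ hχ' hcon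
  obtain ⟨e, he0, he⟩ := hβ.exists_degree_pos
  -- `N₀` lies in the kernel of `β`
  have hkerβ : ∀ x ∈ N₀, β x = β 1 := by
    intro x hx
    have hne' : classInner (fun n : N₀ => β n) (fun _ => 1) ≠ 0 := by
      rw [classInner_indFun N₀ _ hβ.isClassFunction, ← conj_classInner] at hβne
      exact fun h0 => hβne (by rw [h0, map_zero])
    have horbit : orbitFinset N₀ (fun _ : N₀ => (1 : ℂ)) = {fun _ => 1} := by
      refine Finset.ext fun a => ?_
      rw [mem_orbitFinset, Finset.mem_singleton]
      exact ⟨fun ⟨g, hg⟩ => hg, fun h => ⟨1, h⟩⟩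
    have hcl := clifford hβ hone hne'
    rw [horbit, Finset.sum_singleton] at hcl
    have h1 := congrFun hcl ⟨x, hx⟩
    have h2 := congrFun hcl 1
    simp only [Pi.smul_apply, smul_eq_mul, OneMemClass.coe_one] at h1 h2
    rw [h1, h2]
  have hvals : ∀ n : N, χ n = (e : ℂ) * θ n := by
    intro n
    have h := congrFun hβχ (ι n)
    rw [Pi.mul_apply, hπι, hres, hkerβ _ ⟨n, rfl⟩, he] at h
    exact h.symm
  refine ⟨e, funext fun n => by rw [hvals n]; rfl, ?_, ?_⟩
  · rw [← Subgroup.index_comap_of_surjective N hsurj]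
    refine degree_dvd_index_of_scalar hβ _ he fun z hz => ?_
    rw [Subgroup.mem_comap] at hz
    set k := (ι ⟨π z, hz⟩)⁻¹ * z
    have hk : k ∈ π.ker := by
      rw [MonoidHom.mem_ker, map_mul, map_inv, hπι, inv_mul_cancel]
    have hz' : z = ι ⟨π z, hz⟩ * k := (mul_inv_cancel_left _ _).symm
    rw [hz', char_mul_ker hβ.isCharacter (hkerβ _ ⟨_, rfl⟩)]
    exact norm_eq_of_mem_center hβ he (hcent hk)
  · intro hcyc
    obtain ⟨ψ, -, hψirr, hψ⟩ := exists_of_quotient hβ.isCharacter hkerβ
    have hle : N₀ ≤ (Subgroup.comap π N) := by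
      rintro _ ⟨n, rfl⟩
      rw [Subgroup.mem_comap, hπι]; exact n.2
    let q : Γ ⧸ N₀ →* G ⧸ N :=
      QuotientGroup.map N₀ N π hle
    haveI : IsMulCommutative (Γ ⧸ N₀) := by
      refine MonoidHom.isMulCommutative_of_isCyclic_of_ker_le_center q ?_
      intro x hx
      induction x using QuotientGroup.induction_on with
      | _ x =>
        rw [MonoidHom.mem_ker, QuotientGroup.map_mk, QuotientGroup.eq_one_iff] at hx
        have hk : (ι ⟨π x, hx⟩)⁻¹ * x ∈ π.ker := by
          rw [MonoidHom.mem_ker, map_mul, map_inv, hπι, inv_mul_cancel]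
        have hxk : (x : Γ ⧸ N₀) = (((ι ⟨π x, hx⟩)⁻¹ * x : Γ) : Γ ⧸ N₀) := by
          rw [QuotientGroup.mk_mul, (QuotientGroup.eq_one_iff _).mpr
            (N₀.inv_mem (show ι ⟨π x, hx⟩ ∈ N₀ from ⟨_, rfl⟩)), one_mul]
        rw [hxk, Subgroup.mem_center_iff]
        intro y
        induction y using QuotientGroup.induction_on with
        | _ y =>
          rw [← QuotientGroup.mk_mul, ← QuotientGroup.mk_mul,
            Subgroup.mem_center_iff.mp (hcent hk) y]
    have h1 := degree_one_of_isMulCommutative (hψirr hβ)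
    rw [← QuotientGroup.mk_one, hψ, he] at h1
    exact_mod_cast h1

/-- Degrees over a normal subgroup. -/
theorem degree_dvd_of_normal {N : Subgroup G} [N.Normal] [Fintype N] {θ : N → ℂ}
    (hθ : IsIrrCharacter N θ) {χ : G → ℂ} (hχ : IsIrrCharacter G χ)
    (hne : classInner (fun n : N => χ n) θ ≠ 0) {c d : ℕ} (hc : χ 1 = c) (hd : θ 1 = d) :
    d ∣ c ∧ c / d ∣ N.index := by
  classical
  set T := inertia N θ
  haveI := Fintype.ofFinite T
  have hNT : N ≤ T := le_inertia hθ.isClassFunction
  obtain ⟨ψ, hψ, hind, hmult⟩ := exists_indFun_eq hθ T rfl hNT hχ hne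
  haveI := Fintype.ofFinite (N.subgroupOf T)
  let eM := Subgroup.subgroupOfEquivOfLe hNT
  have hθ' : IsIrrCharacter (N.subgroupOf T) (fun y => θ (eM y)) := isIrrCharacter_mulEquiv hθ eM
  have hinv : ∀ t : T, conjFn (N.subgroupOf T) (fun y => θ (eM y)) t = fun y => θ (eM y) := by
    intro t
    have ht : conjFn N θ (t : G) = θ := t.2
    funext y
    have h2 := congrFun ht (eM y)
    rw [conjFn_apply] at h2 ⊢
    exact Eq.trans (congrArg θ (Subtype.ext rfl)) h2
  have hinner : classInner (fun y : N.subgroupOf T => ψ y) (fun y => θ (eM y)) ≠ 0 := by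
    rw [← classInner_comp_equiv eM (fun n : N => ψ ⟨(n : G), hNT n.2⟩) θ] at hmult
    intro h0
    apply hne
    rw [← hmult, ← h0]
    rfl
  obtain ⟨e, hres, hdvd, -⟩ := multiplicity_dvd_index hθ' hinv hψ hinner
  have hψ1 : ψ 1 = (e : ℂ) * d := by
    have := congrFun hres 1
    simpa [hd] using this
  have hdeg : c = T.index * e * d := by
    have := congrFun hind 1
    rw [indFun_one_apply, hψ1, hc] at this
    have h2 : ((T.index * (e * d) : ℕ) : ℂ) = (c : ℂ) := by push_cast; exact this
    rw [mul_assoc]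
    exact_mod_cast h2.symm
  have hd0 : 0 < d := Nat.pos_of_ne_zero fun h => hθ.one_ne_zero (by rw [hd, h, Nat.cast_zero])
  refine ⟨⟨T.index * e, by rw [hdeg]; ring⟩, ?_⟩
  rw [hdeg, Nat.mul_div_cancel _ hd0, ← Subgroup.relIndex_mul_index hNT, mul_comm T.index]
  exact mul_dvd_mul_right hdvd _

/-- An invariant irreducible character extends when the quotient is cyclic. -/
theorem exists_extension_of_cyclic {N : Subgroup G} [N.Normal] (hcyc : IsCyclic (G ⧸ N))
    {θ : N → ℂ} (hθ : IsIrrCharacter N θ) (hinv : ∀ g, conjFn N θ g = θ) :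
    ∃ χ : G → ℂ, IsIrrCharacter G χ ∧ ∀ n : N, χ n = θ n := by
  classical
  haveI := Fintype.ofFinite N
  obtain ⟨m, hm⟩ := exists_decomposition (isCharacter_indFun N hθ.isCharacter)
  obtain ⟨χ, hχ⟩ : ∃ χ : IrrCharacter G, m χ ≠ 0 := by
    by_contra hcon
    push Not at hcon
    have h1 := congrFun hm 1
    simp [hcon, indFun_one_apply, hθ.one_ne_zero] at h1
    exact Subgroup.index_ne_zero_of_finite h1
  have hne : classInner (fun n : N => (χ : G → ℂ) n) θ ≠ 0 := by
    intro h0
    apply hχ
    have h1 : classInner (indFun N θ) (χ : G → ℂ) = (m χ : ℂ) := by rw [hm, classInner_sum_irr]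
    rw [classInner_indFun N θ χ.2.isClassFunction, ← conj_classInner, h0, map_zero] at h1
    exact_mod_cast h1.symm
  obtain ⟨e, hres, -, he⟩ := multiplicity_dvd_index hθ hinv χ.2 hne
  exact ⟨χ, χ.2, fun n => by simpa [he hcyc] using congrFun hres n⟩

end degree

end Cfsg.Lib.Characters
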