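import Cfsg.Agent.Lib.Characters.Induction
import Cfsg.Prelude.Def_CharExt

/-!
# Determinants of representations as functions of their characters
-/

set_option linter.unusedSectionVars false
set_option linter.style.haveILetI false

open Module
open scoped ComplexConjugate

namespace Cfsg.Lib.Characters

variable {G : Type*} [Group G] [Finite G]

section
variable {V W : Type*} [AddCommGroup V] [Module ℂ V] [FiniteDimensional ℂ V]
  [AddCommGroup W] [Module ℂ W] [FiniteDimensional ℂ W]

/-- Families with equal power sums have equal products. -/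
theorem prod_eq_of_pow_sums {ι κ : Type*} [Fintype ι] [Fintype κ] (a : ι → ℂ) (b : κ → ℂ)
    (h : ∀ k : ℕ, ∑ i, a i ^ k = ∑ j, b j ^ k) : ∏ i, a i = ∏ j, b j := by
  classical
  have hlin := linearIndependent_monoidHom (Multiplicative ℕ) ℂ
  rw [linearIndependent_iff'] at hlin
  let s : Finset ℂ := Finset.univ.image a ∪ Finset.univ.image b
  let c : ℂ → ℂ := fun z => (Finset.univ.filter fun i => a i = z).card -
    ((Finset.univ.filter fun j => b j = z).card : ℂ)
  have hs : ∀ k : ℕ, ∑ z ∈ s, c z * z ^ k = 0 := by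
    intro k
    have ha : ∑ z ∈ s, ((Finset.univ.filter fun i => a i = z).card : ℂ) * z ^ k = ∑ i, a i ^ k := by
      rw [← Finset.sum_fiberwise_of_maps_to (g := a) (t := s)
        (fun i _ => Finset.mem_union_left _ (Finset.mem_image_of_mem a (Finset.mem_univ i)))
        (fun i => a i ^ k)]
      refine Finset.sum_congr rfl fun z _ => ?_
      rw [Finset.sum_congr rfl (fun i hi => by rw [(Finset.mem_filter.mp hi).2]),
        Finset.sum_const, nsmul_eq_mul]
    have hb : ∑ z ∈ s, ((Finset.univ.filter fun j => b j = z).card : ℂ) * z ^ k = ∑ j, b j ^ k := by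
      rw [← Finset.sum_fiberwise_of_maps_to (g := b) (t := s)
        (fun i _ => Finset.mem_union_right _ (Finset.mem_image_of_mem b (Finset.mem_univ i)))
        (fun j => b j ^ k)]
      refine Finset.sum_congr rfl fun z _ => ?_
      rw [Finset.sum_congr rfl (fun i hi => by rw [(Finset.mem_filter.mp hi).2]),
        Finset.sum_const, nsmul_eq_mul]
    simp only [c, sub_mul, Finset.sum_sub_distrib, ha, hb, h k, sub_self]
  let e : ℂ ↪ (Multiplicative ℕ →* ℂ) :=
    ⟨powersHom ℂ, (powersHom ℂ).injective⟩
  have h0 := hlin (s.map e) (fun φ => c (φ (Multiplicative.ofAdd 1))) (by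
    ext x
    rw [Finset.sum_map]
    simp only [Finset.sum_apply, Pi.smul_apply, smul_eq_mul, Pi.zero_apply, e,
      Function.Embedding.coeFn_mk, powersHom_apply, toAdd_ofAdd, pow_one]
    exact hs x.toAdd)
  have hc : ∀ z ∈ s, (Finset.univ.filter fun i => a i = z).card =
      (Finset.univ.filter fun j => b j = z).card := by
    intro z hz
    have := h0 (e z) (Finset.mem_map_of_mem e hz)
    simp only [e, Function.Embedding.coeFn_mk, powersHom_apply, toAdd_ofAdd, pow_one, c] at this
    exact_mod_cast sub_eq_zero.mp this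
  rw [← Finset.prod_fiberwise_of_maps_to (g := a) (t := s)
      (fun i _ => Finset.mem_union_left _ (Finset.mem_image_of_mem a (Finset.mem_univ i))) a,
    ← Finset.prod_fiberwise_of_maps_to (g := b) (t := s)
      (fun i _ => Finset.mem_union_right _ (Finset.mem_image_of_mem b (Finset.mem_univ i))) b]
  refine Finset.prod_congr rfl fun z hz => ?_
  rw [Finset.prod_congr rfl (fun i hi => (Finset.mem_filter.mp hi).2),
    Finset.prod_congr rfl (fun i hi => (Finset.mem_filter.mp hi).2), Finset.prod_const,
    Finset.prod_const, hc z hz]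

theorem det_eq_prod_of_eigenbasis {ι : Type*} [Fintype ι] (f : V →ₗ[ℂ] V)
    (b : Module.Basis ι ℂ V) (μ : ι → ℂ) (h : ∀ i, f (b i) = μ i • b i) :
    LinearMap.det f = ∏ i, μ i := by
  classical
  rw [← LinearMap.det_toMatrix b]
  have : LinearMap.toMatrix b b f = Matrix.diagonal μ := by
    ext i j
    rw [LinearMap.toMatrix_apply, h, map_smul, Module.Basis.repr_self, Matrix.diagonal_apply]
    by_cases hij : i = j
    · subst hij; simp
    · simp [Finsupp.single_eq_of_ne hij, hij]
  rw [this, Matrix.det_diagonal]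

theorem character_pow_eq {ι : Type*} [Fintype ι] (ρ : Representation ℂ G V) (g : G)
    (c : Module.Basis ι ℂ V) (ν : ι → ℂ) (hc : ∀ i, ρ g (c i) = ν i • c i) (k : ℕ) :
    ρ.character (g ^ k) = ∑ i, ν i ^ k := by
  refine trace_eq_sum_of_eigenbasis _ c _ fun i => ?_
  induction k with
  | zero => simp
  | succ k ih =>
    rw [pow_succ' g, map_mul, Module.End.mul_apply, ih, map_smul, hc, smul_smul, pow_succ]

/-- Representations with equal characters have equal determinants. -/
theorem det_eq_of_character_eq (ρ : Representation ℂ G V) (σ : Representation ℂ G W)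
    (h : ρ.character = σ.character) (g : G) :
    LinearMap.det (ρ g) = LinearMap.det (σ g) := by
  obtain ⟨b, μ, hb, -⟩ := exists_eigenbasis ρ g
  obtain ⟨b', μ', hb', -⟩ := exists_eigenbasis σ g
  rw [det_eq_prod_of_eigenbasis _ b μ hb, det_eq_prod_of_eigenbasis _ b' μ' hb']
  refine prod_eq_of_pow_sums μ μ' fun k => ?_
  rw [← character_pow_eq ρ g b μ hb k, ← character_pow_eq σ g b' μ' hb' k, h]

end

/-- The determinant of a character, as a homomorphism into the units. -/
theorem exists_detHom {χ : G → ℂ} (h : IsCharacter G χ) :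
    ∃ D : G →* ℂˣ, (∀ g, (D g : ℂ) = detChar χ g) ∧
      ∀ (V : Type) [AddCommGroup V] [Module ℂ V] [FiniteDimensional ℂ V]
        (ρ : Representation ℂ G V), ρ.character = χ → ∀ g, (D g : ℂ) = LinearMap.det (ρ g) := by
  obtain ⟨n, σ, hσ⟩ := id h
  refine ⟨((LinearMap.det.comp (σ : G →* Module.End ℂ (Fin n → ℂ)))).toHomUnits, fun g => ?_, ?_⟩
  · rw [MonoidHom.coe_toHomUnits, MonoidHom.comp_apply, detChar, dif_pos h]
    exact det_eq_of_character_eq σ _
      (hσ.trans (Classical.choose_spec (Classical.choose_spec h)).symm) g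
  · intro V _ _ _ ρ hρ g
    rw [MonoidHom.coe_toHomUnits, MonoidHom.comp_apply]
    exact det_eq_of_character_eq σ ρ (hσ.trans hρ.symm) g

theorem detChar_eq {χ : G → ℂ} {V : Type} [AddCommGroup V] [Module ℂ V] [FiniteDimensional ℂ V]
    (ρ : Representation ℂ G V) (h : ρ.character = χ) (g : G) :
    detChar χ g = LinearMap.det (ρ g) := by
  obtain ⟨D, hD, hD'⟩ := exists_detHom (h ▸ isCharacter_character ρ)
  rw [← hD, hD' V ρ h]

theorem detChar_isLinear {χ : G → ℂ} (h : IsCharacter G χ) :
    IsCharacter G (detChar χ) ∧ detChar χ 1 = 1 := by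
  obtain ⟨D, hD, -⟩ := exists_detHom h
  have : detChar χ = fun g => (D g : ℂ) := funext fun g => (hD g).symm
  rw [this]
  exact ⟨(isIrrCharacter_linear D).isCharacter, by simp⟩

theorem detChar_comp {H : Type*} [Group H] [Finite H] {χ : G → ℂ} (h : IsCharacter G χ)
    (f : H →* G) (x : H) : detChar (fun y => χ (f y)) x = detChar χ (f x) := by
  obtain ⟨n, σ, rfl⟩ := id h
  rw [detChar_eq σ rfl (f x)]
  exact detChar_eq (ρ := (σ.comp f : Representation ℂ H (Fin n → ℂ))) rfl x

theorem detChar_linear_mul {χ : G → ℂ} (h : IsCharacter G χ) {d : ℕ} (hd : χ 1 = d)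
    (lam : G →* ℂˣ) (g : G) :
    detChar (fun x => (lam x : ℂ) * χ x) g = (lam g : ℂ) ^ d * detChar χ g := by
  obtain ⟨n, σ, rfl⟩ := id h
  have hn : n = d := by
    have : σ.character 1 = n := by simp [Representation.char_one]
    exact_mod_cast this.symm.trans hd
  let τ : Representation ℂ G (Fin n → ℂ) :=
    { toFun := fun x => (lam x : ℂ) • σ x
      map_one' := by simp
      map_mul' := fun x y => by
        simp only [map_mul, Units.val_mul, smul_mul_smul_comm] }
  have hτ : τ.character = fun x => (lam x : ℂ) * σ.character x := by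
    funext x
    show LinearMap.trace ℂ _ ((lam x : ℂ) • σ x) = _
    rw [map_smul, smul_eq_mul]
    rfl
  rw [detChar_eq τ hτ g, detChar_eq σ rfl g]
  show LinearMap.det ((lam g : ℂ) • σ g) = _
  rw [LinearMap.det_smul, Module.finrank_fin_fun]
  subst hn
  rfl

theorem detChar_linear (l : G →* ℂˣ) (g : G) : detChar (fun x => (l x : ℂ)) g = (l g : ℂ) := by
  let ρ : Representation ℂ G ℂ :=
    { toFun := fun x => (l x : ℂ) • LinearMap.id
      map_one' := by simp; rfl
      map_mul' := fun a b => by
        ext
        simp [Module.End.mul_eq_comp]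
        ring }
  have hρ : ρ.character = fun x => (l x : ℂ) := funext fun m => by
    show LinearMap.trace ℂ ℂ ((l m : ℂ) • LinearMap.id) = _
    simp
  rw [detChar_eq ρ hρ g, show ρ g = (l g : ℂ) • LinearMap.id from rfl]
  simp

end Cfsg.Lib.Characters
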