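import Cfsg.Agent.Lib.Characters.Gallagher
import Cfsg.Agent.Lib.Characters.Det
import Mathlib.GroupTheory.Transfer

/-!
# Extending invariant characters from Sylow data
-/

set_option linter.unusedSectionVars false
set_option linter.style.haveILetI false

open scoped ComplexConjugate

namespace Cfsg.Lib.Characters

universe u

/-- A character whose pullback is irreducible is irreducible. -/
theorem isIrrCharacter_of_comp {G H : Type*} [Group G] [Finite G] [Group H] [Finite H] (f : H →* G)
    {χ : G → ℂ} (hχ : IsCharacter G χ) (h : IsIrrCharacter H fun x => χ (f x)) :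
    IsIrrCharacter G χ := by
  classical
  haveI := Fintype.ofFinite G
  haveI := Fintype.ofFinite H
  obtain ⟨m, hm⟩ := exists_decomposition hχ
  obtain ⟨d, hd0, hd⟩ := h.exists_degree_pos
  simp only [map_one] at hd
  choose e he using fun ψ : IrrCharacter G =>
    classInner_nat (isCharacter_comp ψ.2.isCharacter f) h.isCharacter
  choose deg hdeg using fun ψ : IrrCharacter G => exists_degree ψ.2.isCharacter
  have hres : (fun x => χ (f x)) = ∑ ψ : IrrCharacter G, (m ψ : ℂ) • fun x => (ψ : G → ℂ) (f x) := by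
    funext x; rw [hm]; simp [Finset.sum_apply]
  have hsum : ∑ ψ, m ψ * e ψ = 1 := by
    have h1 := classInner_irr_self h
    nth_rewrite 1 [hres] at h1
    rw [classInner_sum_left] at h1
    simp only [classInner_smul_left, he] at h1
    exact_mod_cast h1
  obtain ⟨ψ, -, hψ⟩ := Finset.exists_ne_zero_of_sum_ne_zero (hsum ▸ one_ne_zero)
  have hge : d ≤ deg ψ := by
    refine (constituent_degree (isCharacter_comp ψ.2.isCharacter f) h (d := deg ψ) (d' := d) ?_ ?_ ?_).1
    · rw [he]; exact Nat.cast_ne_zero.mpr (right_ne_zero_of_mul hψ)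
    · rw [map_one]; exact hdeg ψ
    · rw [map_one]; exact hd
  have hne : classInner χ (ψ : G → ℂ) ≠ 0 := by
    rw [hm, classInner_sum_irr]; exact Nat.cast_ne_zero.mpr (left_ne_zero_of_mul hψ)
  obtain ⟨hle, heq⟩ := constituent_degree hχ ψ.2 hne hd (hdeg ψ)
  rw [heq (le_antisymm hge hle)]
  exact ψ.2

/-- Two extensions of an irreducible character of a normal subgroup differ by a linear character. -/
theorem exists_linear_of_extensions {G : Type*} [Group G] [Finite G] {M : Subgroup G} [M.Normal]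
    {χ ψ : G → ℂ} (hχ : IsIrrCharacter G χ) (hψ : IsIrrCharacter G ψ)
    (hres : ∀ m : M, ψ m = χ m) (hirr : IsIrrCharacter M fun m => χ m) :
    ∃ μ : G →* ℂˣ, (∀ m ∈ M, μ m = 1) ∧ ∀ g, (μ g : ℂ) * χ g = ψ g := by
  classical
  haveI := Fintype.ofFinite G
  haveI := Fintype.ofFinite M
  have h1 : ∀ g, conjFn M (fun _ : M => (1 : ℂ)) g = fun _ => 1 := fun g => rfl
  have hprod : (fun _ : M => (1 : ℂ)) * (fun m : M => χ m) = fun m : M => χ m := by
    funext m; simp
  obtain ⟨-, -, hall⟩ := gallagher (φ := fun _ : M => (1 : ℂ)) (θ := fun m : M => χ m)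
    isIrrCharacter_one h1 (fun g => res_conjFn hχ.isClassFunction g) (hprod.symm ▸ hirr) hχ
    fun m => rfl
  obtain ⟨β, hβ, hβc, hβe⟩ := hall ψ hψ (by
    rw [hprod, classInner_indFun M _ hψ.isClassFunction]
    have : (fun m : M => ψ m) = fun m : M => χ m := funext hres
    rw [this, classInner_irr_self hirr]
    exact one_ne_zero)
  have hβ1 : β 1 = 1 := by
    have h := congrFun hβe 1
    have h' := hres 1
    rw [Pi.mul_apply] at h
    rw [OneMemClass.coe_one] at h'
    rw [h'] at h
    exact (mul_eq_right₀ hχ.one_ne_zero).mp h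
  obtain ⟨μ, rfl⟩ := exists_hom_of_degree_one hβ.isCharacter hβ1
  refine ⟨μ, fun m hm => ?_, fun g => congrFun hβe g⟩
  rw [classInner_indFun M _ hβ.isClassFunction] at hβc
  have heq : (fun _ : M => (1 : ℂ)) = fun x : M => (μ x : ℂ) := by
    by_contra hdiff
    exact hβc (classInner_irr_ne isIrrCharacter_one
      (isIrrCharacter_linear (μ.comp M.subtype)) hdiff)
  exact Units.ext (congrFun heq ⟨m, hm⟩).symm

/-- An invariant irreducible character extends once, for every prime `p`, either it extends to a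
subgroup of index prime to `p`, or its degree and determinantal order are prime to `p`. -/
theorem exists_extension_of_local {G : Type u} [Group G] [Finite G] {N : Subgroup G} [N.Normal]
    {θ : N → ℂ} (hθ : IsIrrCharacter N θ) (hinv : ∀ g, conjFn N θ g = θ)
    (hsyl : ∀ p : ℕ, p.Prime → ∃ (P : Subgroup G) (hNP : N ≤ P) (η : P → ℂ),
      (Nat.Coprime P.index p ∧ IsIrrCharacter P η ∧ ∀ n : N, η ⟨(n : G), hNP n.2⟩ = θ n) ∨
      ∃ (d m : ℕ) (μ : G →* ℂˣ),
        θ 1 = d ∧ ¬ p ∣ d * m ∧ ∀ n : N, detChar θ n ^ m = (μ n : ℂ)) :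
    ∃ χ : G → ℂ, IsIrrCharacter G χ ∧ ∀ n : N, χ n = θ n := by
  classical
  obtain ⟨Γ, hgr, hfin, π, ι, χV, hsurj, hZc, hMn, hπι, hV, hVθ⟩ := exists_cover hθ hinv
  haveI : ι.range.Normal := hMn
  haveI := Fintype.ofFinite G
  haveI := Fintype.ofFinite Γ
  have hinj : Function.Injective ι := fun a b h => Subtype.ext (by rw [← hπι a, ← hπι b, h])
  -- the scalar by which the kernel acts
  obtain ⟨d, R, hR, hRc⟩ := id hV
  haveI := hR
  have hω : ∀ z : π.ker, ∃ c : ℂˣ, ∀ g : Γ, χV (g * z) = (c : ℂ) * χV g := by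
    intro z
    have hcomm : ∀ g : Γ, R z * R g = R g * R z := fun g => by
      rw [← map_mul, ← map_mul, Subgroup.mem_center_iff.mp (hZc z.2) g]
    obtain ⟨c, hc⟩ := schur_scalar R (R z) hcomm
    have hmul : ∀ g : Γ, χV (g * z) = c * χV g := fun g => by
      subst hRc
      show LinearMap.trace ℂ _ (R (g * z)) = c * LinearMap.trace ℂ _ (R g)
      rw [map_mul, hc]
      have : R g * (c • LinearMap.id) = c • R g := by ext v; simp
      rw [this, map_smul, smul_eq_mul]
    have hc0 : c ≠ 0 := by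
      intro h0
      have := hmul (z : Γ)⁻¹
      rw [inv_mul_cancel, h0, zero_mul] at this
      exact hV.one_ne_zero this
    exact ⟨Units.mk0 c hc0, hmul⟩
  choose ω hω using hω
  have hcancel : ∀ (z : π.ker) (a : ℂˣ), χV z = (a : ℂ) * χV 1 → ω z = a := by
    intro z a h
    have := hω z 1
    rw [one_mul] at this
    exact Units.ext (mul_right_cancel₀ hV.one_ne_zero (this.symm.trans h))
  -- the exponents for which a linear character exists
  let S : AddSubgroup ℤ :=
    { carrier := {n | ∃ T : Γ →* ℂˣ, (∀ m, T (ι m) = 1) ∧ ∀ z : π.ker, T z = ω z ^ n}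
      zero_mem' := ⟨1, fun m => rfl, fun z => by simp⟩
      add_mem' := by
        rintro a b ⟨T, hT, hTz⟩ ⟨T', hT', hTz'⟩
        exact ⟨T * T', fun m => by simp [hT, hT'], fun z => by simp [hTz, hTz', zpow_add]⟩
      neg_mem' := by
        rintro a ⟨T, hT, hTz⟩
        exact ⟨T⁻¹, fun m => by simp [hT], fun z => by simp [hTz]⟩ }
  have hS : ∀ p : ℕ, p.Prime → ∃ n ∈ S, ¬ (p : ℤ) ∣ n := by
    intro p hp
    obtain ⟨P, hNP, η, ⟨hidx, hη, hηθ⟩ | ⟨d', m, μ₀, hd', hpdm, hdet⟩⟩ := hsyl p hp
    swap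
    · obtain ⟨D, hD, hD'⟩ := exists_detHom hV.isCharacter
      refine ⟨((d' * m : ℕ) : ℤ), ⟨D ^ m / μ₀.comp π, fun n => ?_, fun z => Units.ext ?_⟩, ?_⟩
      · rw [MonoidHom.div_apply, div_eq_one, MonoidHom.comp_apply, hπι]
        refine Units.ext ?_
        rw [MonoidHom.pow_apply, Units.val_pow_eq_pow_val, hD,
          ← detChar_comp hV.isCharacter ι n, funext hVθ, hdet]
      · have hR1 : R.character 1 = d' := by
          rw [hRc, ← hd', ← hVθ 1, map_one]
        have hdd : d = d' := by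
          rw [Representation.char_one, Module.finrank_fin_fun] at hR1
          exact_mod_cast hR1
        have hcomm : ∀ g : Γ, R z * R g = R g * R z := fun g => by
          rw [← map_mul, ← map_mul, Subgroup.mem_center_iff.mp (hZc z.2) g]
        obtain ⟨c, hc⟩ := schur_scalar R (R z) hcomm
        have hcω : c = ω z := by
          have h1 := hω z 1
          rw [one_mul, ← hRc] at h1
          have h2 : R.character z = c * R.character 1 := by
            show LinearMap.trace ℂ _ (R z) = c * LinearMap.trace ℂ _ (R 1)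
            rw [hc, map_smul, smul_eq_mul, map_one]
            rfl
          exact mul_right_cancel₀ (hRc.symm ▸ hV.one_ne_zero) (h2.symm.trans h1)
        rw [MonoidHom.div_apply, MonoidHom.comp_apply, MonoidHom.mem_ker.mp z.2, map_one, div_one,
          MonoidHom.pow_apply, Units.val_pow_eq_pow_val, hD' _ R hRc, zpow_natCast,
          Units.val_pow_eq_pow_val, hc, LinearMap.det_smul, LinearMap.det_id, mul_one,
          Module.finrank_fin_fun, hcω, pow_mul, hdd]
      · exact fun h => hpdm (Int.natCast_dvd_natCast.mp h)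
    set Q := P.comap π
    have hιQ : ∀ n : N, ι n ∈ Q := fun n => Subgroup.mem_comap.mpr (hπι n ▸ hNP n.2)
    set M' := ι.range.subgroupOf Q
    let j : N →* M' := ((ι.codRestrict Q hιQ)).codRestrict M' fun n =>
      Subgroup.mem_subgroupOf.mpr ⟨n, rfl⟩
    have hjbij : Function.Bijective j := by
      refine ⟨fun a b h => hinj ?_, fun x => ?_⟩
      · exact congrArg (fun y : M' => ((y : Q) : Γ)) h
      · obtain ⟨n, hn⟩ := Subgroup.mem_subgroupOf.mp x.2
        exact ⟨n, Subtype.ext (Subtype.ext hn)⟩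
    let q : Q →* P := (π.comp Q.subtype).codRestrict P fun x => x.2
    have hqsurj : Function.Surjective q := by
      rintro ⟨g, hg⟩
      obtain ⟨x, hx⟩ := hsurj g
      exact ⟨⟨x, Subgroup.mem_comap.mpr (hx ▸ hg)⟩, Subtype.ext hx⟩
    have hres : IsIrrCharacter M' fun m : M' => χV ((m : Q) : Γ) := by
      have := isIrrCharacter_mulEquiv hθ (MulEquiv.ofBijective j hjbij).symm
      convert this using 1
      funext m
      obtain ⟨n, rfl⟩ := hjbij.2 m
      rw [show (MulEquiv.ofBijective j hjbij).symm (j n) = n from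
        (MulEquiv.ofBijective j hjbij).symm_apply_apply n]
      exact hVθ n
    have hVQ : IsIrrCharacter Q fun x : Q => χV x :=
      isIrrCharacter_of_comp M'.subtype (isCharacter_restrict hV.isCharacter Q) hres
    obtain ⟨μ, hμM, hμ⟩ := exists_linear_of_extensions hVQ
      (isIrrCharacter_comp_surjective hη q hqsurj) (M := M') (fun m => by
        obtain ⟨n, rfl⟩ := hjbij.2 m
        show η (q (j n : Q)) = χV (ι n)
        rw [hVθ, ← hηθ]
        exact congrArg η (Subtype.ext (hπι n))) hres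
    have hZQ : ∀ z : π.ker, (z : Γ) ∈ Q := fun z => by
      rw [Subgroup.mem_comap, MonoidHom.mem_ker.mp z.2]; exact P.one_mem
    have hμz : ∀ z : π.ker, μ ⟨z, hZQ z⟩ = (ω z)⁻¹ := by
      intro z
      have h := hμ ⟨z, hZQ z⟩
      have h1 := hμ 1
      rw [map_one, Units.val_one, one_mul, map_one] at h1
      have hqz : q ⟨z, hZQ z⟩ = 1 := Subtype.ext (MonoidHom.mem_ker.mp z.2)
      rw [hqz, ← h1] at h
      have hz := hω z 1
      rw [one_mul] at hz
      change _ * χV z = χV 1 at h
      rw [hz, ← mul_assoc] at h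
      have h2 : μ ⟨z, hZQ z⟩ * ω z = 1 :=
        Units.ext ((mul_eq_right₀ hV.one_ne_zero).mp h)
      exact eq_inv_of_mul_eq_one_left h2
    refine ⟨-(Q.index : ℤ), ⟨μ.transfer, fun m => ?_, fun z => ?_⟩, ?_⟩
    · letI := Classical.decPred (· ∈ Q)
      rw [MonoidHom.transfer_eq_prod_quotient_orbitRel_zpowers_quot]
      refine Finset.prod_eq_one fun x _ => hμM _ (Subgroup.mem_subgroupOf.mpr ?_)
      have := hMn.conj_mem _ (Subgroup.pow_mem ι.range (⟨m, rfl⟩ : ι m ∈ ι.range)
        (Function.minimalPeriod (fun q : Γ ⧸ Q => ι m • q) (Quotient.out x))) (Quotient.out (Quotient.out x))⁻¹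
      rw [inv_inv] at this
      exact this
    · rw [MonoidHom.transfer_eq_pow μ (z : Γ) fun k g₀ _ => by
        have := Subgroup.mem_center_iff.mp (hZc (Subgroup.pow_mem _ z.2 k)) g₀
        rw [mul_assoc, ← this, inv_mul_cancel_left]]
      have : μ ⟨(z : Γ) ^ Q.index, Q.pow_mem (hZQ z) _⟩ = μ ⟨z, hZQ z⟩ ^ Q.index := by
        rw [← map_pow]; rfl
      exact this.trans (by rw [hμz, inv_pow, zpow_neg, zpow_natCast])
    · rw [Int.dvd_neg, Int.natCast_dvd_natCast, Subgroup.index_comap_of_surjective P hsurj]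
      exact hp.coprime_iff_not_dvd.mp hidx.symm
  obtain ⟨T, hTι, hTz⟩ : (-1 : ℤ) ∈ S := by
    obtain ⟨a, ha⟩ := Int.subgroup_cyclic S
    rw [ha, AddSubgroup.mem_closure_singleton]
    have hunit : a.natAbs = 1 := by
      by_contra hne
      obtain ⟨p, hp, hpa⟩ := Nat.exists_prime_and_dvd hne
      obtain ⟨n, hn, hpn⟩ := hS p hp
      rw [ha, AddSubgroup.mem_closure_singleton] at hn
      obtain ⟨k, rfl⟩ := hn
      exact hpn (dvd_mul_of_dvd_right (Int.natCast_dvd.mpr hpa) k)
    rcases Int.natAbs_eq a with h | h <;> rw [hunit] at h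
    · exact ⟨-1, by simp [h]⟩
    · exact ⟨1, by simp [h]⟩
  -- twist and descend
  set χ' : Γ → ℂ := fun g => (T g : ℂ) * χV g with hχ'
  have hχ'c : IsCharacter Γ χ' :=
    isCharacter_mul (isIrrCharacter_linear T).isCharacter hV.isCharacter
  have hχ'ι : (fun n => χ' (ι n)) = θ := by funext n; simp [hχ', hTι, hVθ]
  have hχ'irr : IsIrrCharacter Γ χ' := isIrrCharacter_of_comp ι hχ'c (hχ'ι ▸ hθ)
  obtain ⟨ψ, -, hψirr, hψ⟩ := exists_of_quotient hχ'c (N := π.ker) fun z hz => by
    have h := hω ⟨z, hz⟩ 1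
    rw [one_mul] at h
    have h' : T z = (ω ⟨z, hz⟩)⁻¹ := by simpa using hTz ⟨z, hz⟩
    simp only [hχ', h', h, map_one, Units.val_one, one_mul]
    rw [← mul_assoc, ← Units.val_mul, inv_mul_cancel, Units.val_one, one_mul]
  let e := QuotientGroup.quotientKerEquivOfSurjective π hsurj
  refine ⟨fun g => ψ (e.symm g), isIrrCharacter_mulEquiv (hψirr hχ'irr) e.symm, fun n => ?_⟩
  have : e.symm (n : G) = (ι n : Γ ⧸ π.ker) := by
    rw [MulEquiv.symm_apply_eq]; exact (hπι n).symm
  show ψ (e.symm (n : G)) = θ n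
  rw [this, hψ, ← hχ'ι]

/-- An invariant irreducible character extends once it extends, for every prime `p`, to a subgroup
of index prime to `p`. -/
theorem exists_extension_of_sylow {G : Type u} [Group G] [Finite G] {N : Subgroup G} [N.Normal]
    {θ : N → ℂ} (hθ : IsIrrCharacter N θ) (hinv : ∀ g, conjFn N θ g = θ)
    (hsyl : ∀ p : ℕ, p.Prime → ∃ (P : Subgroup G) (hNP : N ≤ P) (η : P → ℂ),
      Nat.Coprime P.index p ∧ IsIrrCharacter P η ∧ ∀ n : N, η ⟨(n : G), hNP n.2⟩ = θ n) :
    ∃ χ : G → ℂ, IsIrrCharacter G χ ∧ ∀ n : N, χ n = θ n :=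
  exists_extension_of_local hθ hinv fun p hp => by
    obtain ⟨P, hNP, η, h⟩ := hsyl p hp
    exact ⟨P, hNP, η, Or.inl h⟩

/-- An invariant irreducible character whose degree and determinantal order are prime to the index
extends to the whole group. -/
theorem exists_extension_of_coprime {G : Type u} [Group G] [Finite G] {N : Subgroup G} [N.Normal]
    {θ : N → ℂ} (hθ : IsIrrCharacter N θ) (hinv : ∀ g, conjFn N θ g = θ) {d : ℕ} (hd : θ 1 = d)
    {m : ℕ} (hm : ∀ n : N, detChar θ n ^ m = 1) (hcop : Nat.Coprime N.index (d * m)) :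
    ∃ χ : G → ℂ, IsIrrCharacter G χ ∧ ∀ n : N, χ n = θ n := by
  refine exists_extension_of_local hθ hinv fun p hp => ?_
  by_cases h : p ∣ d * m
  · refine ⟨N, le_rfl, θ, Or.inl ⟨?_, hθ, fun n => rfl⟩⟩
    rw [Nat.coprime_comm, hp.coprime_iff_not_dvd]
    exact fun h' => hp.not_dvd_one (hcop ▸ Nat.dvd_gcd h' h)
  · exact ⟨N, le_rfl, θ, Or.inr ⟨d, m, 1, hd, h, fun n => by simp [hm n]⟩⟩

end Cfsg.Lib.Characters
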