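import Cfsg.Agent.Lib.Characters.PiSection
import Cfsg.Agent.Lib.Solv.SchurZassenhaus

/-!
# Cosets `N x` with `x` of order prime to `|N|`
-/

set_option linter.unusedSectionVars false
set_option linter.style.haveILetI false

namespace Cfsg.Lib.Characters

variable {G : Type*} [Group G] [Finite G]

/-- An element of the coset `N x` is `N`-conjugate to `c x` with `c ∈ C_N(x)`; moreover `x` is a
power of `c x`, so it centralises whatever `c x` centralises. -/
theorem exists_conj_coprime_coset {N : Subgroup G} {x : G}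
    (hx : x ∈ Subgroup.normalizer (N : Set G)) (hcop : Nat.Coprime (orderOf x) (Nat.card N))
    {h : G} (hh : h ∈ N) :
    ∃ n ∈ N, ∃ c ∈ N, c * x = x * c ∧ n * (h * x) * n⁻¹ = c * x ∧ ∃ i : ℕ, (c * x) ^ i = x := by
  obtain ⟨e, he1, he0⟩ := exists_piExp hcop
  set g := h * x with hg
  set S := Subgroup.zpowers x ⊔ N with hS
  have hnorm : Subgroup.zpowers x ≤ Subgroup.normalizer (N : Set G) := Subgroup.zpowers_le.mpr hx
  have hgn : g ∈ Subgroup.normalizer (N : Set G) := mul_mem (Subgroup.le_normalizer hh) hx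
  have hcoset : ∀ i : ℕ, ∃ m ∈ N, g ^ i = m * x ^ i := by
    intro i
    induction i with
    | zero => exact ⟨1, N.one_mem, by simp⟩
    | succ i ih =>
      obtain ⟨m, hm, hi⟩ := ih
      have h2 : x ^ i * h * (x ^ i)⁻¹ ∈ N :=
        (Subgroup.mem_normalizer_iff.mp (Subgroup.pow_mem _ hx i) h).mp hh
      refine ⟨m * (x ^ i * h * (x ^ i)⁻¹), N.mul_mem hm h2, ?_⟩
      rw [pow_succ, hi, hg, pow_succ]
      group
  have hgab : g ^ (orderOf x * Nat.card N) = 1 := by
    obtain ⟨m, hm, hi⟩ := hcoset (orderOf x)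
    rw [pow_orderOf_eq_one, mul_one] at hi
    rw [pow_mul, hi]
    exact orderOf_dvd_iff_pow_eq_one.mp (Subgroup.orderOf_dvd_natCard N hm)
  set g' := g ^ e with hg'
  have hg'a : g' ^ orderOf x = 1 := piExp_pow_left he0 hgab
  obtain ⟨m, hm, hme⟩ := hcoset e
  rw [pow_piExp_of_left he1 (pow_orderOf_eq_one x)] at hme
  -- conjugate `g'` to `x`
  have hU : Subgroup.zpowers g' ≤ Subgroup.zpowers x ⊔ N := by
    rw [Subgroup.zpowers_le, hg', hme]
    exact Subgroup.mul_mem _ (le_sup_right (a := Subgroup.zpowers x) hm)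
      (le_sup_left (b := N) (Subgroup.mem_zpowers x))
  have hord : Nat.Coprime (orderOf g') (Nat.card N) :=
    hcop.coprime_dvd_left (orderOf_dvd_of_pow_eq_one hg'a)
  obtain ⟨n, hn, hle⟩ := Cfsg.Lib.Solv.exists_conj_le N (Subgroup.zpowers x) (Subgroup.zpowers g')
    hnorm hU (by rwa [Nat.card_zpowers]) (by rwa [Nat.card_zpowers]) (Or.inr inferInstance)
  have hmem := Cfsg.Lib.Solv.mem_conj_smul.mp (hle (Subgroup.mem_zpowers g'))
  obtain ⟨i, hi⟩ := Subgroup.mem_zpowers_iff.mp hmem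
  have hxi : x ^ i = x := by
    have h1 : x ^ i * x⁻¹ ∈ N := by
      rw [hi, hg', hme]
      have h2 : x * n * x⁻¹ ∈ N := (Subgroup.mem_normalizer_iff.mp hx n).mp hn
      have := N.mul_mem (N.mul_mem (N.inv_mem hn) hm) h2
      simpa [mul_assoc] using this
    have h2 : x ^ i * x⁻¹ ∈ Subgroup.zpowers x :=
      mul_mem (Subgroup.zpow_mem _ (Subgroup.mem_zpowers x) i)
        (inv_mem (Subgroup.mem_zpowers x))
    have h3 : x ^ i * x⁻¹ ∈ (⊥ : Subgroup G) := by
      rw [← Cfsg.Lib.Solv.inf_eq_bot_of_coprime_card (H := Subgroup.zpowers x) (K := N)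
        (by rwa [Nat.card_zpowers])]
      exact ⟨h2, h1⟩
    exact mul_inv_eq_one.mp (Subgroup.mem_bot.mp h3)
  rw [hxi] at hi
  -- the remaining part
  refine ⟨n⁻¹, N.inv_mem hn, n⁻¹ * g * n * x⁻¹, ?_, ?_, by group, e, ?_⟩
  · have h2 : x * n * x⁻¹ ∈ N := (Subgroup.mem_normalizer_iff.mp hx n).mp hn
    have := N.mul_mem (N.mul_mem (N.inv_mem hn) hh) h2
    simpa [hg, mul_assoc] using this
  · have hc : Commute g' g := (Commute.refl g).pow_left e
    have hc2 : Commute x (n⁻¹ * g * n) := by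
      rw [hi]
      show n⁻¹ * g' * n * (n⁻¹ * g * n) = n⁻¹ * g * n * (n⁻¹ * g' * n)
      calc n⁻¹ * g' * n * (n⁻¹ * g * n) = n⁻¹ * (g' * g) * n := by group
        _ = n⁻¹ * (g * g') * n := by rw [hc.eq]
        _ = n⁻¹ * g * n * (n⁻¹ * g' * n) := by group
    rw [inv_mul_cancel_right]
    show n⁻¹ * g * n = x * (n⁻¹ * g * n * x⁻¹)
    rw [← mul_assoc x (n⁻¹ * g * n), hc2.eq, mul_inv_cancel_right]
  · rw [inv_mul_cancel_right, hi, hg']
    simpa using conj_pow (a := n⁻¹) (b := g) (i := e)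

/-- A class of `N` fixed by a coprime element `x` meets the centralizer of `x`. -/
theorem exists_conj_fixed_coprime {N : Subgroup G} {x : G}
    (hx : x ∈ Subgroup.normalizer (N : Set G)) (hcop : Nat.Coprime (orderOf x) (Nat.card N))
    {k m : G} (hm : m ∈ N) (hfix : m * (x * k * x⁻¹) * m⁻¹ = k) :
    ∃ n ∈ N, x * (n * k * n⁻¹) = n * k * n⁻¹ * x := by
  obtain ⟨n, hn, c, -, -, heq, i, hi⟩ := exists_conj_coprime_coset hx hcop hm
  refine ⟨n, hn, ?_⟩
  have h1 : Commute (m * x) k := by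
    show m * x * k = k * (m * x)
    conv_rhs => rw [← hfix]
    group
  have h2 : Commute (n * (m * x) * n⁻¹) (n * k * n⁻¹) := h1.map (MulAut.conj n).toMonoidHom
  rw [heq] at h2
  exact hi ▸ (h2.pow_left i)

end Cfsg.Lib.Characters
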