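import Cfsg.Agent.Lib.Characters.Permutation
import Cfsg.Agent.Lib.Characters.CoprimeCoset

/-!
# Characters of a normal subgroup fixed by an element
-/

set_option linter.unusedSectionVars false
set_option linter.style.haveILetI false

namespace Cfsg.Lib.Characters

variable {G : Type*} [Group G] [Finite G]

theorem conjClassesMap_mk {M : Type*} [Group M] (f : M →* M) (g : M) :
    ConjClasses.map f (ConjClasses.mk g) = ConjClasses.mk (f g) := rfl

/-- Irreducible characters of `N` fixed by `x` and classes of `N` fixed by `x` are equinumerous. -/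
theorem card_fixed_conjFn (N : Subgroup G) [N.Normal] (x : G) :
    Nat.card {χ : IrrCharacter N // conjFn N (χ : N → ℂ) x = (χ : N → ℂ)} =
      Nat.card {C : ConjClasses N //
        ConjClasses.map ((MulAut.conjNormal x : MulAut N) : N ≃* N).toMonoidHom C = C} := by
  classical
  haveI := Fintype.ofFinite N
  let α : N ≃* N := MulAut.conjNormal x
  let σ : IrrCharacter N ≃ IrrCharacter N :=
    { toFun := fun χ => ⟨fun g => (χ : N → ℂ) (α.symm g),
        isIrrCharacter_comp_surjective χ.2 α.symm.toMonoidHom α.symm.surjective⟩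
      invFun := fun χ => ⟨fun g => (χ : N → ℂ) (α g),
        isIrrCharacter_comp_surjective χ.2 α.toMonoidHom α.surjective⟩
      left_inv := fun χ => Subtype.ext (funext fun g => by simp)
      right_inv := fun χ => Subtype.ext (funext fun g => by simp) }
  let τ : ConjClasses N ≃ ConjClasses N :=
    { toFun := ConjClasses.map α.toMonoidHom
      invFun := ConjClasses.map α.symm.toMonoidHom
      left_inv := fun C => by
        obtain ⟨g, rfl⟩ := ConjClasses.mk_surjective C
        show ConjClasses.mk (α.symm (α g)) = _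
        rw [MulEquiv.symm_apply_apply]
      right_inv := fun C => by
        obtain ⟨g, rfl⟩ := ConjClasses.mk_surjective C
        show ConjClasses.mk (α (α.symm g)) = _
        rw [MulEquiv.apply_symm_apply] }
  have key := card_fixed_irr_eq σ τ fun χ g g' h => by
    show (χ : N → ℂ) (α.symm g') = _
    obtain ⟨c, hc⟩ := isConj_iff.mp
      (ConjClasses.mk_eq_mk_iff_isConj.mp (h.trans (conjClassesMap_mk α.toMonoidHom g)))
    have h2 : α.symm c * α.symm g' * (α.symm c)⁻¹ = g := by
      rw [← map_mul, ← map_inv, ← map_mul, hc]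
      exact α.symm_apply_apply g
    rw [← h2, χ.2.isClassFunction]
  refine Eq.trans (Nat.card_congr (Equiv.subtypeEquivRight fun χ => ?_)) key
  rw [conjFn_eq_comp]
  constructor
  · intro h
    refine Subtype.ext (funext fun g => ?_)
    have := congrFun h (α.symm g)
    simp only [α, MulEquiv.apply_symm_apply] at this
    exact this.symm
  · intro h
    funext g
    have := congrFun (congrArg Subtype.val h) (α g)
    simp only [σ, Equiv.coe_fn_mk, MulEquiv.symm_apply_apply] at this
    exact this.symm

/-- A nonprincipal irreducible character fixed by `x` exists iff a nontrivial class is fixed. -/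
theorem exists_fixed_irr_iff (N : Subgroup G) [N.Normal] (x : G) :
    (∃ θ : N → ℂ, IsIrrCharacter N θ ∧ θ ≠ (fun _ => 1) ∧ conjFn N θ x = θ) ↔
      ∃ k : N, k ≠ 1 ∧ IsConj (MulAut.conjNormal x k) k := by
  classical
  haveI := Fintype.ofFinite N
  have key := card_fixed_conjFn N x
  set α : N →* N := ((MulAut.conjNormal x : MulAut N) : N ≃* N).toMonoidHom
  haveI : Nonempty {χ : IrrCharacter N // conjFn N (χ : N → ℂ) x = (χ : N → ℂ)} :=
    ⟨⟨⟨fun _ => 1, isIrrCharacter_one⟩, rfl⟩⟩
  haveI : Nonempty {C : ConjClasses N // ConjClasses.map α C = C} :=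
    ⟨⟨ConjClasses.mk 1, by rw [conjClassesMap_mk, map_one]⟩⟩
  constructor
  · rintro ⟨θ, hθ, hne, hfix⟩
    by_contra hcon
    push Not at hcon
    haveI : Subsingleton {C : ConjClasses N // ConjClasses.map α C = C} := by
      refine ⟨fun a b => Subtype.ext ?_⟩
      suffices hall : ∀ C : ConjClasses N, ConjClasses.map α C = C → C = ConjClasses.mk 1 by
        rw [hall a.1 a.2, hall b.1 b.2]
      intro C hC
      obtain ⟨k, rfl⟩ := ConjClasses.mk_surjective C
      by_contra hk
      exact hcon k (fun h => hk (by rw [h])) (ConjClasses.mk_eq_mk_iff_isConj.mp hC)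
    rw [Nat.card_of_subsingleton (Classical.arbitrary {C : ConjClasses N //
      ConjClasses.map α C = C})] at key
    haveI := (Nat.card_eq_one_iff_unique.mp key).1
    exact hne (congrArg (fun z => ((z.1 : IrrCharacter N) : N → ℂ)) (Subsingleton.elim
      (⟨⟨θ, hθ⟩, hfix⟩ : {χ : IrrCharacter N // conjFn N (χ : N → ℂ) x = (χ : N → ℂ)})
      ⟨⟨fun _ => 1, isIrrCharacter_one⟩, rfl⟩))
  · rintro ⟨k, hk, hconj⟩
    by_contra hcon
    push Not at hcon
    haveI : Subsingleton {χ : IrrCharacter N // conjFn N (χ : N → ℂ) x = (χ : N → ℂ)} := by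
      refine ⟨fun a b => Subtype.ext (Subtype.ext ?_)⟩
      rw [show ((a.1 : IrrCharacter N) : N → ℂ) = fun _ => 1 from
          not_not.mp fun h => hcon _ a.1.2 h a.2,
        show ((b.1 : IrrCharacter N) : N → ℂ) = fun _ => 1 from
          not_not.mp fun h => hcon _ b.1.2 h b.2]
    rw [Nat.card_of_subsingleton (Classical.arbitrary {χ : IrrCharacter N //
      conjFn N (χ : N → ℂ) x = (χ : N → ℂ)}), eq_comm] at key
    haveI := (Nat.card_eq_one_iff_unique.mp key).1
    have := congrArg Subtype.val (Subsingleton.elim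
      (⟨ConjClasses.mk k, ConjClasses.mk_eq_mk_iff_isConj.mpr hconj⟩ :
        {C : ConjClasses N // ConjClasses.map α C = C})
      ⟨ConjClasses.mk 1, by rw [conjClassesMap_mk, map_one]⟩)
    rw [ConjClasses.mk_eq_mk_iff_isConj, isConj_one_left] at this
    exact hk this

/-- If `N` contains the centralisers of its nontrivial elements, nonprincipal irreducible
characters of `N` have inertia group `N`. -/
theorem inertia_eq_of_centralizer_le {G : Type*} [Group G] [Fintype G] (N : Subgroup G) [N.Normal]
    (hC : ∀ n ∈ N, n ≠ 1 → Subgroup.centralizer ({n} : Set G) ≤ N) {θ : N → ℂ}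
    (hθ : IsIrrCharacter N θ) (hne : θ ≠ fun _ => 1) : inertia N θ = N := by
  refine le_antisymm (fun x hx => ?_) (le_inertia hθ.isClassFunction)
  obtain ⟨k, hk, hconj⟩ := (exists_fixed_irr_iff N x).mp ⟨θ, hθ, hne, hx⟩
  obtain ⟨m, hm⟩ := isConj_iff.mp hconj
  have hval : (m : G) * (x * k * x⁻¹) * (m : G)⁻¹ = k := by
    simpa using congrArg Subtype.val hm
  have hmem : (m : G) * x ∈ N := by
    refine hC _ k.2 (fun h => hk (Subtype.ext h)) (Subgroup.mem_centralizer_singleton_iff.mpr ?_)
    conv_rhs => rw [← hval]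
    group
  simpa using N.mul_mem (N.inv_mem m.2) hmem

end Cfsg.Lib.Characters
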