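import Cfsg.Agent.Lib.Characters.TI
import Cfsg.Prelude.Def_OddOrderLocal
import Cfsg.Prelude.Def_OddOrderChar

/-!
# Four-term virtual characters of a self-normalizing cyclic subgroup
-/

set_option linter.unusedSectionVars false
set_option linter.style.haveILetI false

open scoped ComplexConjugate

namespace Cfsg.Lib.Characters

universe u

variable {G : Type u} [Group G] [Finite G] {W₁ W₂ : Subgroup G}

/-- `(1 - φ) (1 - ψ)`. -/
noncomputable def fourTerm {X : Type*} [Group X] (φ ψ : X →* ℂˣ) : X → ℂ :=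
  fun w => 1 - (φ w : ℂ) - (ψ w : ℂ) + (φ w : ℂ) * (ψ w : ℂ)

theorem sup_hom_eq_one (f : ↥(W₁ ⊔ W₂) →* ℂˣ) (h1 : ∀ w : ↥(W₁ ⊔ W₂), (w : G) ∈ W₁ → f w = 1)
    (h2 : ∀ w : ↥(W₁ ⊔ W₂), (w : G) ∈ W₂ → f w = 1) : f = 1 := by
  have hle : W₁.subgroupOf (W₁ ⊔ W₂) ⊔ W₂.subgroupOf (W₁ ⊔ W₂) ≤ f.ker :=
    sup_le (fun w hw => h1 w hw) fun w hw => h2 w hw
  rw [← Subgroup.subgroupOf_sup le_sup_left le_sup_right, Subgroup.subgroupOf_self] at hle
  exact MonoidHom.ext fun w => hle (Subgroup.mem_top w)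

theorem fourTerm_eq_zero {φ ψ : ↥(W₁ ⊔ W₂) →* ℂˣ}
    (hφ : ∀ w : ↥(W₁ ⊔ W₂), (w : G) ∈ W₂ → φ w = 1)
    (hψ : ∀ w : ↥(W₁ ⊔ W₂), (w : G) ∈ W₁ → ψ w = 1) {w : ↥(W₁ ⊔ W₂)}
    (hw : (w : G) ∈ W₁ ∨ (w : G) ∈ W₂) : fourTerm φ ψ w = 0 := by
  rcases hw with h | h
  · simp [fourTerm, hψ w h]
  · simp [fourTerm, hφ w h]

section Homs

variable {X : Type*} [Group X] [Fintype X]

theorem classInner_hom (a b : X →* ℂˣ) [Decidable (a = b)] :
    classInner (fun w => (a w : ℂ)) (fun w => (b w : ℂ)) = if a = b then 1 else 0 := by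
  by_cases h : a = b
  · rw [if_pos h, h, classInner_irr_self (isIrrCharacter_linear b)]
  · rw [if_neg h, classInner_irr_ne (isIrrCharacter_linear a) (isIrrCharacter_linear b)
      fun he => h (linear_char_injective he)]

open Classical in
theorem classInner_fourTerm_hom (φ ψ l : X →* ℂˣ) :
    classInner (fourTerm φ ψ) (fun w => (l w : ℂ)) =
      (if 1 = l then 1 else 0) - (if φ = l then 1 else 0) - (if ψ = l then 1 else 0) +
        (if φ * ψ = l then 1 else 0) := by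
  have h : fourTerm φ ψ = (((fun w => ((1 : X →* ℂˣ) w : ℂ)) - fun w => (φ w : ℂ)) -
      fun w => (ψ w : ℂ)) + fun w => ((φ * ψ) w : ℂ) := by
    funext w; simp [fourTerm]
  rw [h, classInner_add_left, classInner_sub_left, classInner_sub_left]
  simp only [classInner_hom]

end Homs

section Facts

variable {φ φ' ψ ψ' : ↥(W₁ ⊔ W₂) →* ℂˣ}
  (hφ : ∀ w : ↥(W₁ ⊔ W₂), (w : G) ∈ W₂ → φ w = 1)
  (hφ' : ∀ w : ↥(W₁ ⊔ W₂), (w : G) ∈ W₂ → φ' w = 1)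
  (hψ : ∀ w : ↥(W₁ ⊔ W₂), (w : G) ∈ W₁ → ψ w = 1)
  (hψ' : ∀ w : ↥(W₁ ⊔ W₂), (w : G) ∈ W₁ → ψ' w = 1)

include hφ hφ' hψ hψ' in
theorem mul_hom_eq_iff : φ * ψ = φ' * ψ' ↔ φ = φ' ∧ ψ = ψ' := by
  refine ⟨fun h => ?_, fun h => by rw [h.1, h.2]⟩
  have hφe : φ * φ'⁻¹ = 1 := by
    refine sup_hom_eq_one _ (fun w hw => ?_) fun w hw => by simp [hφ w hw, hφ' w hw]
    have := DFunLike.congr_fun h w
    simp only [MonoidHom.mul_apply, hψ w hw, hψ' w hw, mul_one] at this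
    simp [this]
  replace hφe : φ = φ' := MonoidHom.ext fun w => by
    have : φ w * (φ' w)⁻¹ = 1 := DFunLike.congr_fun hφe w
    exact mul_inv_eq_one.mp this
  refine ⟨hφe, ?_⟩
  rw [hφe] at h
  exact mul_left_cancel h

include hφ hψ' in
theorem hom_left_ne_right (hne : φ ≠ 1) : φ ≠ ψ' := fun h =>
  hne (sup_hom_eq_one φ (fun w hw => h ▸ hψ' w hw) hφ)

include hφ hφ' hψ hψ' in
open Classical in
theorem classInner_fourTerm [Fintype ↥(W₁ ⊔ W₂)] (h1 : φ ≠ 1) (h1' : φ' ≠ 1) (h2 : ψ ≠ 1)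
    (h2' : ψ' ≠ 1) :
    classInner (fourTerm φ ψ) (fourTerm φ' ψ') = 1 + (if φ = φ' then 1 else 0) +
      (if ψ = ψ' then 1 else 0) + (if φ = φ' then 1 else 0) * (if ψ = ψ' then 1 else 0) := by
  have h : fourTerm φ' ψ' = (((fun w => ((1 : ↥(W₁ ⊔ W₂) →* ℂˣ) w : ℂ)) - fun w => (φ' w : ℂ)) -
      fun w => (ψ' w : ℂ)) + fun w => ((φ' * ψ') w : ℂ) := by
    funext w; simp [fourTerm]
  rw [h, classInner_add_right, classInner_sub_right, classInner_sub_right]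
  simp only [classInner_fourTerm_hom]
  have e1 := mul_hom_eq_iff hφ hφ' hψ hψ'
  have htriv : ∀ w : ↥(W₁ ⊔ W₂), (w : G) ∈ W₂ → (1 : ↥(W₁ ⊔ W₂) →* ℂˣ) w = 1 := fun _ _ => rfl
  have htriv' : ∀ w : ↥(W₁ ⊔ W₂), (w : G) ∈ W₁ → (1 : ↥(W₁ ⊔ W₂) →* ℂˣ) w = 1 := fun _ _ => rfl
  have e2 : φ * ψ ≠ 1 := fun e =>
    h1 ((mul_hom_eq_iff hφ htriv hψ htriv').mp (e.trans (one_mul (1 : ↥(W₁ ⊔ W₂) →* ℂˣ)).symm)).1
  have e2' : φ' * ψ' ≠ 1 := fun e =>
    h1' ((mul_hom_eq_iff hφ' htriv hψ' htriv').mp (e.trans (one_mul (1 : ↥(W₁ ⊔ W₂) →* ℂˣ)).symm)).1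
  have e3 : φ * ψ ≠ φ' := fun e =>
    h2 ((mul_hom_eq_iff hφ hφ' hψ htriv').mp (e.trans (mul_one φ').symm)).2
  have e3' : φ' * ψ' ≠ φ := fun e =>
    h2' ((mul_hom_eq_iff hφ' hφ hψ' htriv').mp (e.trans (mul_one φ).symm)).2
  have e4 : φ * ψ ≠ ψ' := fun e =>
    h1 ((mul_hom_eq_iff hφ htriv hψ hψ').mp (e.trans (one_mul ψ').symm)).1
  have e4' : φ' * ψ' ≠ ψ := fun e =>
    h1' ((mul_hom_eq_iff hφ' htriv hψ' hψ).mp (e.trans (one_mul ψ).symm)).1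
  have e5 := hom_left_ne_right hφ hψ' h1
  have e6 := hom_left_ne_right hφ' hψ h1'
  simp only [h1, h1', h2, h2', Ne.symm h1, Ne.symm h1', Ne.symm h2, Ne.symm h2', e2, e3, e4,
    Ne.symm e2', Ne.symm e3', Ne.symm e4', e5, Ne.symm e6, if_true, if_false, e1]
  by_cases hp : φ = φ' <;> by_cases hq : ψ = ψ' <;> simp [hp, hq]

end Facts

theorem zpowers_eq_of_orderOf_eq {C : Type*} [Group C] [Finite C] [IsCyclic C] {a b : C}
    (h : orderOf a = orderOf b) : Subgroup.zpowers a = Subgroup.zpowers b := by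
  classical
  haveI := Fintype.ofFinite C
  have key : ∀ c : C, orderOf c = orderOf b →
      (Finset.univ.filter fun x : C => x ∈ Subgroup.zpowers c) =
        Finset.univ.filter fun x : C => x ^ orderOf b = 1 := by
    intro c hc
    refine Finset.eq_of_subset_of_card_le (fun x hx => ?_) ?_
    · rw [Finset.mem_filter] at hx ⊢
      obtain ⟨k, rfl⟩ := Subgroup.mem_zpowers_iff.mp hx.2
      refine ⟨Finset.mem_univ _, ?_⟩
      rw [← zpow_natCast, ← zpow_mul, mul_comm, zpow_mul, zpow_natCast, ← hc, pow_orderOf_eq_one,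
        one_zpow]
    · refine (IsCyclic.card_pow_eq_one_le (orderOf_pos b)).trans (le_of_eq ?_)
      rw [← hc, ← Nat.card_zpowers, Nat.card_eq_fintype_card, Fintype.card_subtype]
  refine SetLike.ext fun x => ?_
  have := Finset.ext_iff.mp ((key a h).trans (key b rfl).symm) x
  simpa using this

/-- The subset of `W₁ ⊔ W₂` outside both factors is a TI set with normalizer `W₁ ⊔ W₂`. -/
theorem selfNormalizingCyclic_ti (hW : IsSelfNormalizingCyclic W₁ W₂) (g : G) (hg : g ∉ W₁ ⊔ W₂)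
    (t : G) (ht : t ∈ ((↑(W₁ ⊔ W₂) : Set G) \ (↑W₁ ∪ ↑W₂)))
    (hgt : g * t * g⁻¹ ∈ ((↑(W₁ ⊔ W₂) : Set G) \ (↑W₁ ∪ ↑W₂))) : t = 1 := by
  exfalso
  apply hg
  obtain ⟨-, -, -, -, hcyc, hN⟩ := hW
  have hsame : ∀ s : G, s ∈ W₁ ⊔ W₂ → orderOf s = orderOf t →
      Subgroup.zpowers s = Subgroup.zpowers t := by
    intro s hs ho
    have h : (Subgroup.zpowers (⟨s, hs⟩ : ↥(W₁ ⊔ W₂))) = Subgroup.zpowers ⟨t, ht.1⟩ :=
      zpowers_eq_of_orderOf_eq (by rw [Subgroup.orderOf_mk, Subgroup.orderOf_mk, ho])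
    have := congrArg (Subgroup.map (W₁ ⊔ W₂).subtype) h
    simpa [MonoidHom.map_zpowers] using this
  set X : Set G := {s | Subgroup.zpowers s = Subgroup.zpowers t} with hX
  have hXT : X ⊆ ((↑(W₁ ⊔ W₂) : Set G) \ (↑W₁ ∪ ↑W₂)) := by
    intro s hs
    have hst : s ∈ Subgroup.zpowers t := hs ▸ Subgroup.mem_zpowers s
    have hts : t ∈ Subgroup.zpowers s := hs.symm ▸ Subgroup.mem_zpowers t
    refine ⟨Subgroup.zpowers_le.mpr ht.1 hst, ?_⟩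
    rintro (h | h)
    · exact ht.2 (Or.inl (Subgroup.zpowers_le.mpr h hts))
    · exact ht.2 (Or.inr (Subgroup.zpowers_le.mpr h hts))
  rw [← hN X hXT ⟨t, rfl⟩]
  have hgtz : Subgroup.zpowers (g * t * g⁻¹) = Subgroup.zpowers t :=
    hsame _ hgt.1 (orderOf_injective (MulAut.conj g).toMonoidHom (MulEquiv.injective _) t)
  have hconj : ∀ s : G, Subgroup.zpowers (g * s * g⁻¹) =
      (Subgroup.zpowers s).map (MulAut.conj g).toMonoidHom := fun s => by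
    rw [MonoidHom.map_zpowers]; rfl
  have hinj := Subgroup.map_injective (f := (MulAut.conj g).toMonoidHom) (MulEquiv.injective _)
  rw [Subgroup.mem_set_normalizer_iff]
  intro s
  show Subgroup.zpowers s = _ ↔ Subgroup.zpowers (g * s * g⁻¹) = _
  conv_rhs => rw [← hgtz, hconj, hconj]
  exact hinj.eq_iff.symm

theorem fourTerm_support {φ ψ : ↥(W₁ ⊔ W₂) →* ℂˣ}
    (hφ : ∀ w : ↥(W₁ ⊔ W₂), (w : G) ∈ W₂ → φ w = 1)
    (hψ : ∀ w : ↥(W₁ ⊔ W₂), (w : G) ∈ W₁ → ψ w = 1) (w : ↥(W₁ ⊔ W₂))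
    (hw : (w : G) ∉ ((↑(W₁ ⊔ W₂) : Set G) \ (↑W₁ ∪ ↑W₂))) : fourTerm φ ψ w = 0 := by
  refine fourTerm_eq_zero hφ hψ ?_
  by_contra h
  exact hw ⟨w.2, h⟩

theorem isClassFunction_fourTerm {X : Type*} [Group X] (φ ψ : X →* ℂˣ) :
    IsClassFunction X (fourTerm φ ψ) := fun g h => by
  simp [fourTerm, mul_comm, mul_left_comm]

end Cfsg.Lib.Characters
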