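import Cfsg.Agent.Lib.Characters.CyclicTI
import Cfsg.Agent.Lib.Characters.Integrality
import Mathlib.GroupTheory.NoncommCoprod

/-!
# Projections and the rectangle rule for a self-normalizing cyclic subgroup
-/

set_option linter.unusedSectionVars false
set_option linter.style.haveILetI false

open scoped ComplexConjugate

namespace Cfsg.Lib.Characters

universe u

variable {G : Type u} [Group G] {W₁ W₂ : Subgroup G}

/-- The projection of `W₁ ⊔ W₂` onto the first factor. -/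
theorem exists_proj (hdisj : W₁ ⊓ W₂ = ⊥) (hcomm : ∀ a ∈ W₁, ∀ b ∈ W₂, a * b = b * a) :
    ∃ π₁ π₂ : ↥(W₁ ⊔ W₂) →* ↥(W₁ ⊔ W₂), (∀ w, ((π₁ w : ↥(W₁ ⊔ W₂)) : G) ∈ W₁) ∧
      (∀ w, ((π₂ w : ↥(W₁ ⊔ W₂)) : G) ∈ W₂) ∧ (∀ w, π₁ w * π₂ w = w) ∧
      (∀ w : ↥(W₁ ⊔ W₂), (w : G) ∈ W₁ → π₁ w = w ∧ π₂ w = 1) ∧
      (∀ w : ↥(W₁ ⊔ W₂), (w : G) ∈ W₂ → π₁ w = 1 ∧ π₂ w = w) := by
  set f₁ : W₁ →* ↥(W₁ ⊔ W₂) := Subgroup.inclusion le_sup_left
  set f₂ : W₂ →* ↥(W₁ ⊔ W₂) := Subgroup.inclusion le_sup_right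
  have hc : ∀ a b, Commute (f₁ a) (f₂ b) := fun a b => Subtype.ext (hcomm a a.2 b b.2)
  set F := MonoidHom.noncommCoprod f₁ f₂ hc
  have hFap : ∀ a b, F (a, b) = f₁ a * f₂ b := fun a b => rfl
  have hinj : Function.Injective F := by
    rw [injective_iff_map_eq_one]
    rintro ⟨a, b⟩ h
    have h' : (a : G) * b = 1 := congrArg Subtype.val h
    have ha : (a : G) ∈ W₁ ⊓ W₂ := ⟨a.2, eq_inv_of_mul_eq_one_left h' ▸ W₂.inv_mem b.2⟩
    rw [hdisj, Subgroup.mem_bot] at ha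
    rw [ha, one_mul] at h'
    exact Prod.ext (Subtype.ext ha) (Subtype.ext h')
  have hsurj : Function.Surjective F := by
    rw [← MonoidHom.range_eq_top, ← top_le_iff, ← Subgroup.subgroupOf_self,
      Subgroup.subgroupOf_sup le_sup_left le_sup_right]
    refine sup_le (fun w hw => ⟨(⟨w, hw⟩, 1), ?_⟩) fun w hw => ⟨(1, ⟨w, hw⟩), ?_⟩
    · rw [hFap, map_one, mul_one]; rfl
    · rw [hFap, map_one, one_mul]; rfl
  let e := MulEquiv.ofBijective F ⟨hinj, hsurj⟩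
  let π₁ : ↥(W₁ ⊔ W₂) →* ↥(W₁ ⊔ W₂) :=
    f₁.comp ((MonoidHom.fst W₁ W₂).comp e.symm.toMonoidHom)
  let π₂ : ↥(W₁ ⊔ W₂) →* ↥(W₁ ⊔ W₂) :=
    f₂.comp ((MonoidHom.snd W₁ W₂).comp e.symm.toMonoidHom)
  refine ⟨π₁, π₂, fun w => (e.symm w).1.2, fun w => (e.symm w).2.2, fun w => ?_, fun w hw => ?_,
    fun w hw => ?_⟩
  · conv_rhs => rw [← e.apply_symm_apply w]
    rfl
  · have h : e.symm w = (⟨w, hw⟩, 1) := by
      rw [MulEquiv.symm_apply_eq]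
      show w = F (⟨w, hw⟩, 1)
      rw [hFap, map_one, mul_one]; rfl
    show f₁ (e.symm w).1 = w ∧ f₂ (e.symm w).2 = 1
    rw [h]
    exact ⟨rfl, map_one f₂⟩
  · have h : e.symm w = (1, ⟨w, hw⟩) := by
      rw [MulEquiv.symm_apply_eq]
      show w = F (1, ⟨w, hw⟩)
      rw [hFap, map_one, one_mul]; rfl
    show f₁ (e.symm w).1 = 1 ∧ f₂ (e.symm w).2 = w
    rw [h]
    exact ⟨map_one f₁, rfl⟩

/-- Linear characters separate the elements of a finite abelian group. -/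
theorem exists_hom_ne_one {X : Type*} [Group X] [Finite X] [IsMulCommutative X] {x : X}
    (hx : x ≠ 1) : ∃ l : X →* ℂˣ, l x ≠ 1 := by
  classical
  haveI := Fintype.ofFinite X
  by_contra hcon
  push Not at hcon
  have hval : ∀ θ : IrrCharacter X, (θ : X → ℂ) x = 1 ∧ (θ : X → ℂ) 1 = 1 := by
    intro θ
    have h1 := degree_one_of_isMulCommutative θ.2
    obtain ⟨l, hl⟩ := exists_hom_of_degree_one θ.2.isCharacter h1
    refine ⟨?_, h1⟩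
    rw [hl]
    simp [hcon l]
  have hsum := column_orthogonality x (1 : X)
  rw [if_neg (fun h => hx (isConj_one_right.mp h.symm))] at hsum
  simp only [(hval _).1, (hval _).2, map_one, mul_one, Finset.sum_const, nsmul_eq_mul,
    Nat.cast_eq_zero] at hsum
  exact Finset.card_ne_zero.mpr ⟨⟨fun _ => 1, isIrrCharacter_one⟩, Finset.mem_univ _⟩ hsum

/-- Every linear character of `W₁ ⊔ W₂` splits along the factors. -/
theorem exists_split (hdisj : W₁ ⊓ W₂ = ⊥) (hcomm : ∀ a ∈ W₁, ∀ b ∈ W₂, a * b = b * a)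
    (ω : ↥(W₁ ⊔ W₂) →* ℂˣ) : ∃ φ ψ : ↥(W₁ ⊔ W₂) →* ℂˣ,
      (∀ w : ↥(W₁ ⊔ W₂), (w : G) ∈ W₂ → φ w = 1) ∧ (∀ w : ↥(W₁ ⊔ W₂), (w : G) ∈ W₁ → ψ w = 1) ∧
      ω = φ * ψ := by
  obtain ⟨π₁, π₂, h1, h2, hprod, hw1, hw2⟩ := exists_proj hdisj hcomm
  refine ⟨ω.comp π₁, ω.comp π₂, fun w hw => ?_, fun w hw => ?_, MonoidHom.ext fun w => ?_⟩
  · rw [MonoidHom.comp_apply, (hw2 w hw).1, map_one]
  · rw [MonoidHom.comp_apply, (hw1 w hw).2, map_one]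
  · rw [MonoidHom.mul_apply, MonoidHom.comp_apply, MonoidHom.comp_apply, ← map_mul, hprod]

/-- There is a linear character trivial on the other factor and non-trivial at a given element. -/
theorem exists_factor_hom [Finite G] (hdisj : W₁ ⊓ W₂ = ⊥)
    (hcomm : ∀ a ∈ W₁, ∀ b ∈ W₂, a * b = b * a) [IsMulCommutative ↥(W₁ ⊔ W₂)]
    {w : ↥(W₁ ⊔ W₂)} (hw : (w : G) ∉ W₂) : ∃ φ : ↥(W₁ ⊔ W₂) →* ℂˣ,
      (∀ x : ↥(W₁ ⊔ W₂), (x : G) ∈ W₂ → φ x = 1) ∧ φ w ≠ 1 := by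
  obtain ⟨π₁, π₂, h1, h2, hprod, hw1, hw2⟩ := exists_proj hdisj hcomm
  have hne : π₁ w ≠ 1 := fun h => hw (by
    rw [← hprod w, h, one_mul]; exact h2 w)
  obtain ⟨l, hl⟩ := exists_hom_ne_one hne
  exact ⟨l.comp π₁, fun x hx => by rw [MonoidHom.comp_apply, (hw2 x hx).1, map_one], hl⟩

/-- The same with the factors exchanged. -/
theorem exists_factor_hom' [Finite G] (hdisj : W₁ ⊓ W₂ = ⊥)
    (hcomm : ∀ a ∈ W₁, ∀ b ∈ W₂, a * b = b * a) [IsMulCommutative ↥(W₁ ⊔ W₂)]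
    {w : ↥(W₁ ⊔ W₂)} (hw : (w : G) ∉ W₁) : ∃ ψ : ↥(W₁ ⊔ W₂) →* ℂˣ,
      (∀ x : ↥(W₁ ⊔ W₂), (x : G) ∈ W₁ → ψ x = 1) ∧ ψ w ≠ 1 := by
  obtain ⟨π₁, π₂, h1, h2, hprod, hw1, hw2⟩ := exists_proj hdisj hcomm
  have hne : π₂ w ≠ 1 := fun h => hw (by
    rw [← hprod w, h, mul_one]; exact h1 w)
  obtain ⟨l, hl⟩ := exists_hom_ne_one hne
  exact ⟨l.comp π₂, fun x hx => by rw [MonoidHom.comp_apply, (hw1 x hx).2, map_one], hl⟩

/-- A function on the linear characters with the rectangle rule and at most two non-zero values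
vanishes when both factors have at least three elements. -/
theorem rect_eq_zero {A B M : Type*} [AddCommGroup M] (d : A → B → M)
    (hA : ∀ a a' : A, ∃ x, x ≠ a ∧ x ≠ a') (hB : ∀ b b' : B, ∃ y, y ≠ b ∧ y ≠ b')
    (hrect : ∀ a a' b b', d a b + d a' b' = d a b' + d a' b) (a₀ a₁ : A) (b₀ b₁ : B)
    (hsupp : ∀ a b, d a b ≠ 0 → (a = a₀ ∧ b = b₀) ∨ (a = a₁ ∧ b = b₁)) : ∀ a b, d a b = 0 := by
  intro a b
  by_contra hne
  obtain ⟨x, hx0, hx1⟩ := hA a₀ a₁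
  obtain ⟨y, hy0, hy1⟩ := hB b₀ b₁
  have hz : ∀ a' b', (a' = x ∨ b' = y) → d a' b' = 0 := by
    intro a' b' h
    by_contra hne'
    rcases hsupp a' b' hne' with ⟨rfl, rfl⟩ | ⟨rfl, rfl⟩ <;> rcases h with h | h
    · exact hx0 h.symm
    · exact hy0 h.symm
    · exact hx1 h.symm
    · exact hy1 h.symm
  have := hrect a x b y
  rw [hz x y (Or.inl rfl), hz a y (Or.inr rfl), hz x b (Or.inl rfl), add_zero, add_zero] at this
  exact hne this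

end Cfsg.Lib.Characters
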