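import Mathlib
import Cfsg.Agent.Lib.Characters.Induction

/-!
# Virtual characters of `GL(2, 3)` living on the special classes
-/

set_option autoImplicit false
set_option linter.unusedSectionVars false
set_option linter.constructorNameAsVariable false
set_option maxRecDepth 4000
open Cfsg

namespace Cfsg.Lib.Characters.GLTwoThree

open Cfsg Cfsg.Lib.Characters
open scoped ComplexConjugate

abbrev GL23 : Type := Matrix.GeneralLinearGroup (Fin 2) (ZMod 3)

abbrev T4 : Type := ZMod 3 × ZMod 3 × ZMod 3 × ZMod 3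

/-- The entries. -/
def tup (g : GL23) : T4 := (g.1 0 0, g.1 0 1, g.1 1 0, g.1 1 1)

def mulT : T4 → T4 → T4
  | (a, b, c, d), (a', b', c', d') => (a * a' + b * c', a * b' + b * d', c * a' + d * c', c * b' + d * d')

def detT : T4 → ZMod 3
  | (a, b, c, d) => a * d - b * c

def invT : T4 → T4
  | (a, b, c, d) => let e := a * d - b * c; (e * d, -(e * b), -(e * c), e * a)

def oneT : T4 := (1, 0, 0, 1)

def negT : T4 := (2, 0, 0, 2)

def conjT (x y : T4) : T4 := mulT (mulT (invT x) y) x

/-- The forty-eight invertible tuples. -/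
def L : List T4 :=
  let r : List (ZMod 3) := [0, 1, 2]
  ((r.product (r.product (r.product r))).filter fun x => detT x != 0)

theorem tup_mul (g h : GL23) : tup (g * h) = mulT (tup g) (tup h) := by
  simp [tup, mulT, Units.val_mul, Matrix.mul_apply, Fin.sum_univ_two]

theorem tup_one : tup 1 = oneT := by simp [tup, oneT]

theorem tup_injective : Function.Injective tup := by
  intro g h e
  simp only [tup, Prod.mk.injEq] at e
  refine Units.ext (Matrix.ext fun i j => ?_)
  fin_cases i <;> fin_cases j
  · exact e.1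
  · exact e.2.1
  · exact e.2.2.1
  · exact e.2.2.2

theorem mem_L_iff : ∀ x : T4, x ∈ L ↔ detT x ≠ 0 := by decide +kernel

theorem tup_mem (g : GL23) : tup g ∈ L := by
  rw [mem_L_iff]
  have h : IsUnit (g.1).det := (Matrix.isUnit_iff_isUnit_det _).mp g.isUnit
  have h' := h.ne_zero
  rwa [Matrix.det_fin_two] at h'

theorem inv_facts : ∀ x ∈ L, invT x ∈ L ∧ mulT x (invT x) = oneT ∧ mulT (invT x) x = oneT := by
  decide +kernel

theorem exists_tup {x : T4} (hx : x ∈ L) : ∃ g : GL23, tup g = x := by
  obtain ⟨a, b, c, d⟩ := x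
  have h := (mem_L_iff _).mp hx
  refine ⟨Matrix.GeneralLinearGroup.mkOfDetNeZero !![a, b; c, d] ?_, ?_⟩
  · rw [Matrix.det_fin_two]
    simpa [detT] using h
  · simp [tup, Matrix.GeneralLinearGroup.mkOfDetNeZero]

theorem tup_inv (g : GL23) : tup g⁻¹ = invT (tup g) := by
  obtain ⟨h, hh⟩ := exists_tup (inv_facts _ (tup_mem g)).1
  have : g * h = 1 := tup_injective (by rw [tup_mul, hh, (inv_facts _ (tup_mem g)).2.1, tup_one])
  rw [inv_eq_of_mul_eq_one_right this, hh]

theorem tup_conj (x y : GL23) : tup (x⁻¹ * y * x) = conjT (tup x) (tup y) := by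
  rw [tup_mul, tup_mul, tup_inv, conjT]

theorem L_nodup : L.Nodup := by decide +kernel

theorem univ_image : Finset.univ.image tup = L.toFinset := by
  ext x
  simp only [Finset.mem_image, Finset.mem_univ, true_and, List.mem_toFinset]
  exact ⟨fun ⟨g, hg⟩ => hg ▸ tup_mem g, exists_tup⟩

theorem sum_tup {M : Type*} [AddCommMonoid M] (f : T4 → M) : ∑ g : GL23, f (tup g) = (L.map f).sum := by
  rw [← List.sum_toFinset f L_nodup, ← univ_image, Finset.sum_image fun _ _ _ _ h => tup_injective h]

theorem card_tup (P : T4 → Prop) [DecidablePred P] :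
    Nat.card {g : GL23 // P (tup g)} = L.countP (fun x => decide (P x)) := by
  classical
  rw [Nat.card_eq_fintype_card, Fintype.card_subtype, Finset.card_filter,
    sum_tup (fun x => if P x then 1 else 0), List.countP_eq_length_filter]
  induction L with
  | nil => rfl
  | cons x l ih => by_cases h : P x <;> simp [h, ih, Nat.add_comm]

theorem card_GL : Nat.card GL23 = 48 := by
  have h := card_tup fun _ => True
  rw [Nat.card_congr (Equiv.subtypeUnivEquiv fun _ => trivial)] at h
  rw [h]
  decide +kernel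

/-- The class of a tuple: 1, -1, noncentral involution, order 3, 6, 4, 8, 8. -/
def cls : T4 → Fin 8
  | (a, b, c, d) =>
    if a * d - b * c = 1 then
      (if (a, b, c, d) = oneT then 0 else if (a, b, c, d) = negT then 1 else
        if a + d = 0 then 5 else if a + d = 2 then 3 else 4)
    else (if a + d = 0 then 2 else if a + d = 1 then 6 else 7)

def sizes : Fin 8 → ℕ := ![1, 1, 12, 8, 8, 6, 6, 6]

theorem cls_count : ∀ c : Fin 8, L.countP (fun x => decide (cls x = c)) = sizes c := by decide +kernel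

theorem cls_conj : ∀ x ∈ L, ∀ y ∈ L, cls (conjT x y) = cls y := by decide +kernel

theorem sum_cls (f : Fin 8 → ℂ) : ∑ g : GL23, f (cls (tup g)) = ∑ c, (sizes c : ℂ) * f c := by
  classical
  rw [← Finset.sum_fiberwise_of_maps_to (g := fun g : GL23 => cls (tup g)) (t := Finset.univ)
    (fun g _ => Finset.mem_univ _)]
  refine Finset.sum_congr rfl fun c _ => ?_
  rw [Finset.sum_congr rfl (g := fun _ => f c) fun g hg => congrArg f (Finset.mem_filter.mp hg).2,
    Finset.sum_const, nsmul_eq_mul]
  have h1 : (Finset.univ.filter fun g : GL23 => cls (tup g) = c).card = sizes c := by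
    refine Eq.trans ?_ ((card_tup fun x => cls x = c).trans (cls_count c))
    rw [Nat.card_eq_fintype_card, Fintype.card_subtype]
  exact congrArg (fun n : ℕ => (n : ℂ) * f c) h1

theorem isClassFunction_cls (f : Fin 8 → ℂ) : IsClassFunction GL23 fun g => f (cls (tup g)) := by
  intro a b
  have h : b * a * b⁻¹ = b⁻¹⁻¹ * a * b⁻¹ := by rw [inv_inv]
  simp only
  rw [h, tup_conj, cls_conj _ (tup_mem _) _ (tup_mem _)]

/-- A subgroup cut out by a condition on tuples. -/
def sgrp (P : T4 → Bool) (h1 : P oneT = true)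
    (hm : ∀ x ∈ L, ∀ y ∈ L, P x = true → P y = true → P (mulT x y) = true)
    (hi : ∀ x ∈ L, P x = true → P (invT x) = true) : Subgroup GL23 where
  carrier := {g | P (tup g) = true}
  one_mem' := by show P (tup 1) = true; rw [tup_one]; exact h1
  mul_mem' {a b} ha hb := by
    show P (tup (a * b)) = true
    rw [tup_mul]
    exact hm _ (tup_mem a) _ (tup_mem b) ha hb
  inv_mem' {a} ha := by
    show P (tup a⁻¹) = true
    rw [tup_inv]
    exact hi _ (tup_mem a) ha

/-- The permutation character on the cosets of such a subgroup, read off a table. -/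
theorem perm_char (P : T4 → Bool) (h1 : P oneT = true)
    (hm : ∀ x ∈ L, ∀ y ∈ L, P x = true → P y = true → P (mulT x y) = true)
    (hi : ∀ x ∈ L, P x = true → P (invT x) = true) (n : ℕ) (hn : L.countP (fun x => P x) = n)
    (hn0 : n ≠ 0) (val : Fin 8 → ℕ)
    (htab : ∀ y ∈ L, L.countP (fun x => P (conjT x y)) = n * val (cls y)) :
    IsCharacter GL23 fun g => (val (cls (tup g)) : ℂ) := by
  classical
  set H := sgrp P h1 hm hi
  have hc := isCharacter_indFun H (isCharacter_one (G := H))
  have hcard : Nat.card H = n := by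
    rw [show Nat.card H = Nat.card {g : GL23 // P (tup g) = true} from rfl,
      card_tup fun x => P x = true]
    simpa using hn
  suffices he : (fun g => (val (cls (tup g)) : ℂ)) = indFun H (fun _ => 1) by rw [he]; exact hc
  funext g
  rw [indFun, hcard]
  have hsum : ∑ x : GL23, extendByZero H (fun _ => (1 : ℂ)) (x⁻¹ * g * x) =
      ((n * val (cls (tup g)) : ℕ) : ℂ) := by
    rw [← htab _ (tup_mem g)]
    have h := card_tup fun x => P (conjT x (tup g)) = true
    simp only [Bool.decide_eq_true] at h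
    rw [← h, Nat.card_eq_fintype_card, Fintype.card_subtype, Finset.card_filter, Nat.cast_sum]
    refine Finset.sum_congr rfl fun x _ => ?_
    by_cases hx : x⁻¹ * g * x ∈ H
    · have hx' : P (tup (x⁻¹ * g * x)) = true := hx
      rw [extendByZero_mem _ hx, ← tup_conj, if_pos hx', Nat.cast_one]
    · have hx' : ¬ P (tup (x⁻¹ * g * x)) = true := hx
      rw [extendByZero_not_mem _ hx, ← tup_conj, if_neg hx', Nat.cast_zero]
  rw [hsum, Nat.cast_mul, ← mul_assoc, inv_mul_cancel₀ (Nat.cast_ne_zero.mpr hn0), one_mul]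

/-- The sign of the determinant. -/
def sgn : Fin 8 → ℤ := ![1, 1, -1, 1, 1, 1, -1, -1]

theorem sgn_mul : ∀ x ∈ L, ∀ y ∈ L, sgn (cls (mulT x y)) = sgn (cls x) * sgn (cls y) := by decide +kernel

theorem sign_char : IsCharacter GL23 fun g => (sgn (cls (tup g)) : ℂ) := by
  let f : GL23 →* ℂ :=
    { toFun := fun g => (sgn (cls (tup g)) : ℂ)
      map_one' := by rw [tup_one, show sgn (cls oneT) = 1 by decide +kernel, Int.cast_one]
      map_mul' := fun a b => by rw [tup_mul, sgn_mul _ (tup_mem a) _ (tup_mem b), Int.cast_mul] }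
  exact (isIrrCharacter_linear f.toHomUnits).isCharacter

def w0 : T4 := (1, 1, 1, 0)

def wp : ℕ → T4
  | 0 => oneT
  | k + 1 => mulT (wp k) w0

def inW (x : T4) : Bool := (List.range 8).any fun k => x == wp k

/-- The counts behind the character induced from the cyclic subgroup of order eight. -/
def wTab : Fin 8 → Fin 8 → ℕ :=
  ![![48, 0, 0, 0, 0, 0, 0, 0], ![0, 0, 0, 0, 48, 0, 0, 0], ![0, 0, 0, 0, 0, 0, 0, 0],
    ![0, 0, 0, 0, 0, 0, 0, 0], ![0, 0, 0, 0, 0, 0, 0, 0], ![0, 0, 8, 0, 0, 0, 8, 0],
    ![0, 8, 0, 8, 0, 0, 0, 0], ![0, 0, 0, 0, 0, 8, 0, 8]]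

theorem w_table : ∀ y ∈ L, ∀ k : Fin 8, L.countP (fun x => decide (conjT x y = wp k)) = wTab (cls y) k := by
  decide +kernel

theorem wp_mul : ∀ i < 8, ∀ j < 8, mulT (wp i) (wp j) = wp ((i + j) % 8) := by decide +kernel

theorem wp_inj : ∀ i < 8, ∀ j < 8, wp i = wp j → i = j := by decide +kernel

theorem inW_one : inW oneT = true := by decide +kernel
theorem inW_mul : ∀ x ∈ L, ∀ y ∈ L, inW x = true → inW y = true → inW (mulT x y) = true := by decide +kernel
theorem inW_inv : ∀ x ∈ L, inW x = true → inW (invT x) = true := by decide +kernel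
theorem inW_count : L.countP (fun x => inW x) = 8 := by decide +kernel

/-- The values of the character induced from the cyclic subgroup of order eight. -/
def iW (α : ℂ) : Fin 8 → ℂ := ![6, -6, 0, 0, 0, 0, α, -α]

theorem exists_alpha : ∃ α : ℂ, α * α = -2 ∧ conj α = -α ∧ IsCharacter GL23 fun g => iW α (cls (tup g)) := by
  classical
  obtain ⟨ζ, hζ⟩ : ∃ ζ : ℂ, ζ ^ 4 = -1 :=
    ⟨(-1 : ℂ) ^ (((4 : ℕ) : ℂ)⁻¹), Complex.cpow_nat_inv_pow _ (by norm_num)⟩
  have h8 : ζ ^ 8 = 1 := by rw [show 8 = 4 * 2 by norm_num, pow_mul, hζ]; norm_num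
  have hn : ‖ζ‖ = 1 := Complex.norm_eq_one_of_pow_eq_one h8 (by norm_num)
  have hc : conj ζ = ζ ^ 7 := by
    rw [← Complex.inv_eq_conj hn]
    exact inv_eq_of_mul_eq_one_right (by rw [← pow_succ']; exact h8)
  refine ⟨ζ + ζ ^ 3, ?_, ?_, ?_⟩
  · linear_combination (2 + ζ ^ 2) * hζ
  · rw [map_add, map_pow, hc]
    linear_combination (ζ ^ 17 - ζ ^ 13 + ζ ^ 9 - ζ ^ 5 + ζ + ζ ^ 3) * hζ
  · set W := sgrp inW inW_one inW_mul inW_inv
    let F : T4 → ℂ := fun x => ∑ k ∈ Finset.range 8, if x = wp k then ζ ^ k else 0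
    have hF : ∀ i < 8, F (wp i) = ζ ^ i := by
      intro i hi
      show (∑ k ∈ Finset.range 8, if wp i = wp k then ζ ^ k else 0) = _
      rw [Finset.sum_eq_single i]
      · rw [if_pos rfl]
      · intro k hk hne
        rw [if_neg fun h => hne (wp_inj i hi k (Finset.mem_range.mp hk) h).symm]
      · intro h; exact absurd (Finset.mem_range.mpr hi) h
    have hmemW : ∀ x : W, ∃ i < 8, tup (x : GL23) = wp i := by
      intro x
      have hx : inW (tup (x : GL23)) = true := x.2
      simp only [inW, List.any_eq_true, List.mem_range, beq_iff_eq] at hx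
      exact hx
    have hnot : ∀ y : GL23, y ∉ W → F (tup y) = 0 := by
      intro y hy
      refine Finset.sum_eq_zero fun k hk => if_neg fun h => hy ?_
      show inW (tup y) = true
      simp only [inW, List.any_eq_true, List.mem_range, beq_iff_eq]
      exact ⟨k, Finset.mem_range.mp hk, h⟩
    let f : W →* ℂ :=
      { toFun := fun x => F (tup (x : GL23))
        map_one' := by
          rw [OneMemClass.coe_one, tup_one]
          exact (hF 0 (by norm_num)).trans (pow_zero ζ)
        map_mul' := fun a b => by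
          obtain ⟨i, hi, ha⟩ := hmemW a
          obtain ⟨j, hj, hb⟩ := hmemW b
          rw [Subgroup.coe_mul, tup_mul, ha, hb, wp_mul i hi j hj, hF i hi, hF j hj,
            hF _ (Nat.mod_lt _ (by norm_num)), ← pow_add]
          conv_rhs => rw [← Nat.mod_add_div (i + j) 8, pow_add, pow_mul, h8, one_pow, mul_one] }
    have hchar := isCharacter_indFun W (θ := fun x => ((f.toHomUnits x : ℂˣ) : ℂ))
      (isIrrCharacter_linear f.toHomUnits).isCharacter
    suffices he : (fun g => iW (ζ + ζ ^ 3) (cls (tup g))) = indFun W (fun x => ((f.toHomUnits x : ℂˣ) : ℂ)) by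
      rw [he]; exact hchar
    funext g
    have hW : Nat.card W = 8 := by
      rw [show Nat.card W = Nat.card {g : GL23 // inW (tup g) = true} from rfl, card_tup fun x => inW x = true]
      simpa using inW_count
    have hterm : ∀ x : GL23, extendByZero W (fun x => ((f.toHomUnits x : ℂˣ) : ℂ)) (x⁻¹ * g * x) =
        ∑ k : Fin 8, if conjT (tup x) (tup g) = wp k then ζ ^ (k : ℕ) else 0 := by
      intro x
      rw [Fin.sum_univ_eq_sum_range (fun k => if conjT (tup x) (tup g) = wp k then ζ ^ k else 0),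
        ← tup_conj]
      by_cases hx : x⁻¹ * g * x ∈ W
      · rw [extendByZero_mem _ hx]
        rfl
      · rw [extendByZero_not_mem _ hx]
        exact (hnot _ hx).symm
    rw [indFun, hW, Finset.sum_congr rfl fun x _ => hterm x, Finset.sum_comm,
      Finset.sum_congr rfl (g := fun k : Fin 8 => (wTab (cls (tup g)) k : ℂ) * ζ ^ (k : ℕ)) fun k _ => by
        rw [← w_table _ (tup_mem g) k, ← card_tup fun x => conjT x (tup g) = wp k,
          Nat.card_eq_fintype_card, Fintype.card_subtype, ← Finset.sum_filter, Finset.sum_const,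
          nsmul_eq_mul]]
    generalize cls (tup g) = c
    fin_cases c <;> simp [iW, wTab, Fin.sum_univ_eight]
    · norm_num
    · rw [hζ]; norm_num
    all_goals (first | linear_combination (8 * ζ ^ 2) * hζ | linear_combination -(ζ ^ 2) * hζ |
      linear_combination (ζ + ζ ^ 3) * hζ | linear_combination -(ζ + ζ ^ 3) * hζ | ring_nf | skip)

/-- The five virtual characters: values in `ℤ + ℤ α` on the classes. -/
def vval (α : ℂ) : Fin 5 → Fin 8 → ℂ :=
  ![![0, 8, 0, 0, 2, 0, 2, 2], ![0, 8, 0, 0, 2, 0, -2, -2], ![0, 0, 0, 0, 0, 0, 2 * α, -(2 * α)],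
    ![0, 4, 0, 0, -2, 2, -α, α], ![0, 8, 0, 0, 2, -4, 0, 0]]

def inB (x : T4) : Bool := x.2.2.1 == 0
def inV (x : T4) : Bool := x.2.2.1 == 0 && x.1 == 1
def inN (x : T4) : Bool := conjT x w0 == w0 || conjT x w0 == wp 3

theorem exists_basis : ∃ α : ℂ, α * α = -2 ∧ conj α = -α ∧
    ∀ i, IsGeneralizedCharacter GL23 fun g => vval α i (cls (tup g)) := by
  obtain ⟨α, h2, hc, hW⟩ := exists_alpha
  have h4 := perm_char inB (by decide +kernel) (by decide +kernel) (by decide +kernel) 12
    (by decide +kernel) (by norm_num) ![4, 4, 2, 1, 1, 0, 0, 0] (by decide +kernel)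
  have h8 := perm_char inV (by decide +kernel) (by decide +kernel) (by decide +kernel) 6
    (by decide +kernel) (by norm_num) ![8, 0, 2, 2, 0, 0, 0, 0] (by decide +kernel)
  have h3 := perm_char inN (by decide +kernel) (by decide +kernel) (by decide +kernel) 16
    (by decide +kernel) (by norm_num) ![3, 3, 1, 0, 0, 3, 1, 1] (by decide +kernel)
  set one : GL23 → ℂ := fun _ => 1
  set e : GL23 → ℂ := fun g => (sgn (cls (tup g)) : ℂ)
  set p4 : GL23 → ℂ := fun g => ((![4, 4, 2, 1, 1, 0, 0, 0] : Fin 8 → ℕ) (cls (tup g)) : ℂ)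
  set p8 : GL23 → ℂ := fun g => ((![8, 0, 2, 2, 0, 0, 0, 0] : Fin 8 → ℕ) (cls (tup g)) : ℂ)
  set p3 : GL23 → ℂ := fun g => ((![3, 3, 1, 0, 0, 3, 1, 1] : Fin 8 → ℕ) (cls (tup g)) : ℂ)
  set pW : GL23 → ℂ := fun g => iW α (cls (tup g))
  have g1 : IsGeneralizedCharacter GL23 one := isGeneralized_of_isCharacter isCharacter_one
  have ge : IsGeneralizedCharacter GL23 e := isGeneralized_of_isCharacter sign_char
  have g4 := isGeneralized_of_isCharacter h4
  have g8 := isGeneralized_of_isCharacter h8
  have g3 := isGeneralized_of_isCharacter h3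
  have gW := isGeneralized_of_isCharacter hW
  have gx : IsGeneralizedCharacter GL23 (p8 - p4) := isGeneralized_sub g8 g4
  have ga : IsGeneralizedCharacter GL23 (p4 - one) := isGeneralized_sub g4 g1
  have gb : IsGeneralizedCharacter GL23 (e * (p4 - one)) := isGeneralized_mul ge ga
  have gs : IsGeneralizedCharacter GL23 (p3 - one) := isGeneralized_sub g3 g1
  have gn : IsGeneralizedCharacter GL23 (pW - (p8 - p4)) := isGeneralized_sub gW gx
  refine ⟨α, h2, hc, fun i => ?_⟩
  have key : ∀ f : GL23 → ℂ, IsGeneralizedCharacter GL23 f →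
      (∀ g, vval α i (cls (tup g)) = f g) → IsGeneralizedCharacter GL23 fun g => vval α i (cls (tup g)) :=
    fun f hf hfe => by rw [funext hfe]; exact hf
  fin_cases i
  · refine key _ (isGeneralized_sub (isGeneralized_add g1 gb) gx) fun g => ?_
    simp only [one, e, p4, p8, Pi.sub_apply, Pi.add_apply, Pi.mul_apply]
    generalize cls (tup g) = c
    fin_cases c <;> simp [vval, sgn] <;> norm_num
  · refine key _ (isGeneralized_sub (isGeneralized_add ge ga) gx) fun g => ?_
    simp only [one, e, p4, p8, Pi.sub_apply, Pi.add_apply]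
    generalize cls (tup g) = c
    fin_cases c <;> simp [vval, sgn] <;> norm_num
  · refine key _ (isGeneralized_sub gn (isGeneralized_mul ge gn)) fun g => ?_
    simp only [e, p4, p8, pW, Pi.sub_apply, Pi.mul_apply]
    generalize cls (tup g) = c
    fin_cases c <;> simp [vval, sgn, iW] <;> ring
  · refine key _ (isGeneralized_sub gs gn) fun g => ?_
    simp only [one, p3, p4, p8, pW, Pi.sub_apply]
    generalize cls (tup g) = c
    fin_cases c <;> simp [vval, iW] <;> ring
  · refine key _ (isGeneralized_sub (isGeneralized_sub (isGeneralized_add ga gb) gs) gx) fun g => ?_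
    simp only [one, e, p3, p4, p8, Pi.sub_apply, Pi.add_apply, Pi.mul_apply]
    generalize cls (tup g) = c
    fin_cases c <;> simp [vval, sgn] <;> norm_num

end Cfsg.Lib.Characters.GLTwoThree
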