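import Cfsg.Agent.Lib.Characters.Induction

/-!
# Induction from trivial intersection subsets
-/

set_option linter.unusedSectionVars false

open scoped ComplexConjugate

namespace Cfsg.Lib.Characters

variable {G : Type*} [Group G] [Fintype G] {L : Subgroup G} {T : Set G}

theorem indFun_eq_of_ti (hTI : ∀ g : G, g ∉ L → ∀ t ∈ T, g * t * g⁻¹ ∈ T → t = 1) {ψ : L → ℂ}
    (hψ : IsClassFunction L ψ) (hψT : ∀ x : L, (x : G) ∉ T → ψ x = 0) (t : L) (htT : (t : G) ∈ T)
    (ht1 : t ≠ 1) : indFun L ψ t = ψ t := by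
  classical
  have key : ∀ x : G, extendByZero L ψ (x⁻¹ * t * x) = if x ∈ L then ψ t else 0 := by
    intro x
    by_cases hx : x ∈ L
    · rw [if_pos hx, extendByZero_mem ψ (L.mul_mem (L.mul_mem (L.inv_mem hx) t.2) hx)]
      have := hψ t ⟨x, hx⟩⁻¹
      exact (congrArg ψ (Subtype.ext (by simp))).trans this
    · rw [if_neg hx]
      by_cases hy : x⁻¹ * t * x ∈ L
      · rw [extendByZero_mem ψ hy]
        refine hψT _ fun hT => ht1 ?_
        have := hTI x⁻¹ (fun h => hx (by simpa using L.inv_mem h)) t htT (by simpa using hT)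
        exact Subtype.ext this
      · exact extendByZero_not_mem ψ hy
  rw [indFun, Finset.sum_congr rfl fun x _ => key x, ← Finset.sum_filter, Finset.sum_const,
    nsmul_eq_mul, Nat.card_eq_fintype_card (α := L), Fintype.card_subtype]
  rw [← mul_assoc, inv_mul_cancel₀, one_mul]
  simp only [ne_eq, Nat.cast_eq_zero, Finset.card_eq_zero]
  exact Finset.nonempty_iff_ne_empty.mp ⟨1, by simp [L.one_mem]⟩

theorem classInner_indFun_ti [Fintype L]
    (hTI : ∀ g : G, g ∉ L → ∀ t ∈ T, g * t * g⁻¹ ∈ T → t = 1) {ψ θ : L → ℂ}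
    (hψT : ∀ x : L, (x : G) ∉ T → ψ x = 0) (hθ : IsClassFunction L θ)
    (hθT : ∀ x : L, (x : G) ∉ T → θ x = 0) (hψ1 : ψ 1 = 0) :
    classInner (indFun L ψ) (indFun L θ) = classInner ψ θ := by
  rw [classInner_indFun L ψ (isClassFunction_indFun L θ)]
  simp only [classInner]
  congr 1
  refine Finset.sum_congr rfl fun x _ => ?_
  by_cases hx : (x : G) ∈ T
  · by_cases hx1 : x = 1
    · simp [hx1, hψ1]
    · rw [indFun_eq_of_ti hTI hθ hθT x hx hx1]
  · simp [hψT x hx]

end Cfsg.Lib.Characters
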