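import Cfsg.Agent.Lib.Characters.Integrality
import Cfsg.Agent.Lib.Characters.Normal
import Cfsg.Agent.Lib.Solv.Coprime
import Cfsg.Agent.Lib.Solv.Cores
import Cfsg.Agent.Lib.PLocal.Constraint

/-!
# Faithful characters of small degree of `p`-solvable groups with TI Sylow subgroup
-/

namespace Cfsg.Lib.Characters

open Subgroup Finset
open scoped ComplexConjugate Classical commutatorElement Pointwise

set_option linter.unusedSectionVars false
set_option linter.style.longLine false
set_option linter.style.haveILetI false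

variable {G : Type*} [Group G] [Finite G] {p : ℕ} [hp : Fact p.Prime]

/-- Dual of Hall–Higman: with `O_p = 1` the centraliser of `O_{p'}` lies in it. -/
theorem centralizer_pPrimeCore_le (hsol : IsPSolvable p G) (hO : pCore p G = ⊥) :
    centralizer (pPrimeCore p G : Set G) ≤ pPrimeCore p G := by
  obtain ⟨n, S, h0, hn, hmono, hnorm, hfac⟩ := hsol
  set N := pPrimeCore p G
  set C := centralizer (N : Set G)
  suffices ∀ i, S i ⊓ C ≤ N by
    intro x hx
    exact this (Fin.last n) ⟨hn ▸ mem_top x, hx⟩
  intro i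
  induction i using Fin.induction with
  | zero => rw [h0, bot_inf_eq]; exact bot_le
  | succ i ih =>
    haveI := hnorm i.succ
    haveI := hnorm i.castSucc
    haveI : N.Normal := inferInstance
    haveI : C.Normal := Subgroup.normal_centralizer
    set A := S i.castSucc ⊓ C with hA
    set M := S i.succ ⊓ C with hM
    have hAM : A ≤ M := inf_le_inf_right C (hmono Fin.castSucc_lt_succ.le)
    have hAc : ∀ a ∈ A, ∀ m ∈ M, a * m = m * a := fun a ha m hm =>
      mem_centralizer_iff.mp hm.2 a (ih ha)
    have hAp : (Nat.card A).Coprime p :=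
      (Solv.coprime_pPrimeCore p).coprime_dvd_left (card_dvd_of_le ih)
    have hd : A.relIndex M ∣ (S i.castSucc).relIndex (S i.succ) := by
      have e : A.relIndex M = (S i.castSucc).relIndex M := by
        rw [← inf_relIndex_right (S i.castSucc) M, hA, hM, ← inf_assoc,
          inf_eq_left.2 (hmono Fin.castSucc_lt_succ.le)]
      rw [e]
      haveI : ((S i.castSucc).subgroupOf (S i.succ)).Normal := inferInstance
      have := relIndex_dvd_index_of_normal ((S i.castSucc).subgroupOf (S i.succ)) (M.subgroupOf (S i.succ))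
      rwa [relIndex_subgroupOf (inf_le_left : M ≤ S i.succ)] at this
    have hMcard : Nat.card M = Nat.card A * A.relIndex M := by
      rw [← Nat.card_congr (subgroupOfEquivOfLe hAM).toEquiv]
      exact (A.subgroupOf M).card_mul_index.symm
    rcases hfac i with ⟨m, hm⟩ | hcop
    · rw [hm] at hd
      obtain ⟨k, -, hk⟩ := (Nat.dvd_prime_pow hp.out).1 hd
      obtain T : Sylow p M := default
      have hTn : (T : Subgroup M).Normal := by
        have htop : A.subgroupOf M ⊔ (T : Subgroup M) = ⊤ := by
          apply eq_top_of_le_card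
          refine Nat.le_of_dvd Nat.card_pos ?_
          rw [hMcard]
          refine Nat.Coprime.mul_dvd_of_dvd_of_dvd ?_ ?_ ?_
          · rw [show A.relIndex M = p ^ k from hk]; exact hAp.pow_right k
          · rw [← Nat.card_congr (subgroupOfEquivOfLe hAM).toEquiv]
            exact card_dvd_of_le le_sup_left
          · rw [show A.relIndex M = p ^ k from hk]
            refine dvd_trans ?_ (card_dvd_of_le le_sup_right)
            rw [T.card_eq_multiplicity]
            refine pow_dvd_pow p ?_
            rw [hMcard, Nat.factorization_mul Nat.card_pos.ne' (by rw [show A.relIndex M = p ^ k from hk]; exact pow_ne_zero _ hp.out.ne_zero),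
              Finsupp.add_apply, show A.relIndex M = p ^ k from hk, hp.out.factorization_pow, Finsupp.single_eq_same]
            exact Nat.le_add_left _ _
        refine normalizer_eq_top_iff.mp (top_le_iff.mp (htop ▸ sup_le (fun a ha => ?_) le_normalizer))
        rw [Subgroup.mem_normalizer_iff]
        intro t
        have hc : a * t = t * a := Subtype.ext (hAc a ha t t.2)
        rw [hc, mul_inv_cancel_right]
      haveI : (T : Subgroup M).Characteristic := T.characteristic_of_normal hTn
      have hTbot : ((T : Subgroup M).map M.subtype) = ⊥ :=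
        le_bot_iff.mp (hO ▸ Solv.le_pCore ConjAct.normal_of_characteristic_of_normal (T.isPGroup'.map _))
      rw [map_eq_bot_iff_of_injective _ M.subtype_injective] at hTbot
      have h1 := T.card_eq_multiplicity
      rw [hTbot, card_bot] at h1
      refine Solv.le_pPrimeCore inferInstance (Nat.Coprime.symm ((hp.out.coprime_iff_not_dvd).mpr fun h => ?_))
      have h2 := hp.out.factorization_pos_of_dvd Nat.card_pos.ne' h
      rcases Nat.pow_eq_one.mp h1.symm with h3 | h3
      · exact hp.out.ne_one h3
      · omega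
    · exact Solv.le_pPrimeCore inferInstance (by
        rw [hMcard]; exact Nat.Coprime.mul_left hAp (hcop.coprime_dvd_left hd))

section Action

variable {R : Subgroup G}

/-- A character of a `p'`-subgroup on which a `p`-group acts fixed point freely has large degree. -/
theorem large_degree_of_free {P : Subgroup G} (hP : IsPGroup p P) (hPbot : P ≠ ⊥)
    (hPR : P ≤ normalizer (R : Set G)) (hcop : (Nat.card P).Coprime (Nat.card R))
    (hRne : R ≠ ⊥) (hgen : ⁅R, P⁆ = R)
    (hcomm : ∀ a ∈ R, ∀ b ∈ R, ⁅a, b⁆ ∈ centralizer (P : Set G))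
    (hfix : ∀ x ∈ P, x ≠ 1 → ∀ r ∈ R, x * r = r * x → r ∈ centralizer (P : Set G))
    (hmin : ∀ K : Subgroup G, K ≤ R → P ≤ normalizer (K : Set G) → K ≠ R → K ≤ centralizer (P : Set G))
    {χ : G → ℂ} (hχ : IsCharacter G χ) (hfaith : ∀ g : G, χ g = χ 1 → g = 1) {d : ℕ} (hd : χ 1 = d) :
    Nat.card P < d ^ 2 := by
  haveI := Fintype.ofFinite G
  haveI := Fintype.ofFinite R
  -- fixed points commute with the commutator subgroup, which is everything
  have hcent : ∀ c ∈ R, c ∈ centralizer (P : Set G) → ∀ r ∈ R, c * r = r * c := by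
    intro c hc hcP
    have hle : ⁅R, P⁆ ≤ centralizer ({c} : Set G) := by
      rw [commutator_le]
      intro r hr x hx
      rw [mem_centralizer_singleton_iff, commutatorElement_def]
      have hcx : x * c = c * x := mem_centralizer_iff.mp hcP x hx
      set r' := x * r⁻¹ * x⁻¹ with hr'
      have hr'R : r' ∈ R := (mem_normalizer_iff.mp (hPR hx) _).mp (inv_mem hr)
      have hu : x * ⁅c, r⁻¹⁆ * x⁻¹ = ⁅c, r⁻¹⁆ := by
        rw [mem_centralizer_iff.mp (hcomm c hc _ (inv_mem hr)) x hx, mul_inv_cancel_right]
      have h1 : c * r' * c⁻¹ * r'⁻¹ = c * r⁻¹ * c⁻¹ * r := by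
        have hx' : x * c * x⁻¹ = c := by rw [hcx, mul_inv_cancel_right]
        calc c * r' * c⁻¹ * r'⁻¹ = (x * c * x⁻¹) * r' * (x * c * x⁻¹)⁻¹ * r'⁻¹ := by rw [hx']
          _ = x * ⁅c, r⁻¹⁆ * x⁻¹ := by rw [commutatorElement_def, hr']; group
          _ = _ := by rw [hu, commutatorElement_def, inv_inv]
      have h3 : r * r' * c⁻¹ = c⁻¹ * (r * r') := by
        calc r * r' * c⁻¹ = r * (c⁻¹ * (c * r' * c⁻¹ * r'⁻¹)) * r' := by group
          _ = r * (c⁻¹ * (c * r⁻¹ * c⁻¹ * r)) * r' := by rw [h1]
          _ = _ := by group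
      calc r * x * r⁻¹ * x⁻¹ * c = c * (c⁻¹ * (r * r')) * c := by rw [hr']; group
        _ = c * (r * r' * c⁻¹) * c := by rw [h3]
        _ = c * (r * x * r⁻¹ * x⁻¹) := by rw [hr']; group
    intro r hr
    exact (mem_centralizer_singleton_iff.mp (hle (hgen.symm ▸ hr))).symm
  have hd0 : 0 < d := by
    rcases Nat.eq_zero_or_pos d with h | h
    · exfalso
      obtain ⟨n, ρ, rfl⟩ := id hχ
      rw [h, Representation.char_one, Nat.cast_inj, Module.finrank_fin_fun] at hd
      subst hd
      obtain ⟨r, hr, hr1⟩ := (bot_or_exists_ne_one R).resolve_left hRne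
      refine hr1 (hfaith r ?_)
      simp [Representation.character, Subsingleton.elim (ρ r) (ρ 1)]
    · exact h
  -- decompose the restriction
  obtain ⟨mu, hmu⟩ := exists_decomposition (isCharacter_restrict hχ R)
  choose dg hdg using fun ψ : IrrCharacter R => exists_degree ψ.2.isCharacter
  have hsum : d = ∑ ψ, mu ψ * dg ψ := by
    have h := congrFun hmu 1
    simp only [OneMemClass.coe_one, hd, Finset.sum_apply, Pi.smul_apply, smul_eq_mul, hdg] at h
    exact_mod_cast h
  have hex : ∀ r : R, r ≠ 1 → ∃ ψ : IrrCharacter R, mu ψ ≠ 0 ∧ (ψ : R → ℂ) r ≠ (ψ : R → ℂ) 1 := by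
    intro r hr
    by_contra hh
    push Not at hh
    refine hr (Subtype.ext (hfaith r ?_))
    have h1 := congrFun hmu r
    have h2 := congrFun hmu 1
    simp only [Finset.sum_apply, Pi.smul_apply, smul_eq_mul, OneMemClass.coe_one] at h1 h2
    rw [h1, h2]
    refine Finset.sum_congr rfl fun ψ _ => ?_
    by_cases h0 : mu ψ = 0
    · simp [h0]
    · rw [hh ψ h0]
  obtain ⟨k, hk⟩ := hP.exists_card_eq
  have hPpos : 1 < Nat.card P := (Subgroup.one_lt_card_iff_ne_bot P).mpr hPbot
  have hconjR : ∀ x ∈ P, ∀ r ∈ R, x * r * x⁻¹ ∈ R := fun x hx r hr =>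
    (mem_normalizer_iff.mp (hPR hx) r).mp hr
  by_cases hab : ∀ a ∈ R, ∀ b ∈ R, a * b = b * a
  · -- abelian: a regular orbit of linear constituents
    haveI : IsMulCommutative R := ⟨⟨fun a b => Subtype.ext (hab a a.2 b b.2)⟩⟩
    letI : CommGroup R := { (inferInstance : Group R) with mul_comm := fun a b => Subtype.ext (hab a a.2 b b.2) }
    obtain ⟨r0, hr0, hr01⟩ := (bot_or_exists_ne_one R).resolve_left hRne
    obtain ⟨ψ, hψm, hψ⟩ := hex ⟨r0, hr0⟩ (fun h => hr01 (congrArg Subtype.val h))
    obtain ⟨lam, hlam⟩ := exists_hom_of_degree_one ψ.2.isCharacter (degree_one_of_isMulCommutative ψ.2)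
    let act : P → R →* R := fun x =>
      { toFun := fun r => ⟨(x : G) * r * (x : G)⁻¹, hconjR x x.2 r r.2⟩
        map_one' := Subtype.ext (by simp)
        map_mul' := fun r r' => Subtype.ext (by simp [mul_assoc]) }
    haveI := Fintype.ofFinite P
    have hact : ∀ (x y : P) (r : R), act (x * y) r = act x (act y r) := fun x y r => Subtype.ext (by
      show ((x * y : P) : G) * r * ((x * y : P) : G)⁻¹ = x * ((y : G) * r * (y : G)⁻¹) * (x : G)⁻¹
      simp [mul_assoc])
    have hfixbot : ∀ c : R, (c : G) ∈ centralizer (P : Set G) → c = 1 := by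
      intro c hc
      let ν : R →* R :=
        { toFun := fun r => ∏ x : P, act x r
          map_one' := by simp
          map_mul' := fun r r' => by simp [Finset.prod_mul_distrib] }
      have hker : R ≤ ν.ker.map R.subtype := by
        conv_lhs => rw [← hgen]
        rw [commutator_le]
        intro r hr y hy
        refine ⟨⟨r, hr⟩ * (act ⟨y, hy⟩ ⟨r, hr⟩)⁻¹, MonoidHom.mem_ker.mpr ?_, ?_⟩
        · have : ν (act ⟨y, hy⟩ ⟨r, hr⟩) = ν ⟨r, hr⟩ := by
            show ∏ x : P, act x (act ⟨y, hy⟩ ⟨r, hr⟩) = ∏ x : P, act x ⟨r, hr⟩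
            exact Fintype.prod_equiv (Equiv.mulRight (⟨y, hy⟩ : P)) _ _ fun x => (hact x _ _).symm
          rw [map_mul, map_inv, this, mul_inv_cancel]
        · show r * (y * r * y⁻¹)⁻¹ = ⁅r, y⁆
          rw [commutatorElement_def]; group
      obtain ⟨c', hc', hcc⟩ := hker c.2
      have hνc : ν c = 1 := by
        rw [← R.subtype_injective hcc]; exact MonoidHom.mem_ker.mp hc'
      have hpow : ν c = c ^ Nat.card P := by
        show ∏ x : P, act x c = _
        rw [Finset.prod_congr rfl (g := fun _ => c) fun x _ => Subtype.ext (by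
          show (x : G) * c * (x : G)⁻¹ = c
          rw [mem_centralizer_iff.mp hc x x.2, mul_inv_cancel_right]), Finset.prod_const, Finset.card_univ,
          Nat.card_eq_fintype_card]
      exact orderOf_eq_one_iff.mp (Nat.eq_one_of_dvd_coprimes hcop
        (orderOf_dvd_of_pow_eq_one (hpow ▸ hνc)) (orderOf_dvd_natCard c))
    have hstab : ∀ x : P, (∀ r, lam (act x r) = lam r) → x = 1 := by
      intro x hx
      by_contra hx1
      apply hψ
      rw [hlam]
      show (lam _ : ℂ) = (lam 1 : ℂ)
      set r : R := ⟨r0, hr0⟩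
      rw [map_one, Units.val_one]
      set m := orderOf x
      set t : R := ∏ i ∈ Finset.range m, act (x ^ i) r
      have hpowx : ∀ i, lam (act (x ^ i) r) = lam r := by
        intro i
        induction i with
        | zero => rw [pow_zero]; congr 1; exact Subtype.ext (by show ((1 : P) : G) * r * ((1 : P) : G)⁻¹ = r; simp)
        | succ i ih => rw [pow_succ', hact, hx, ih]
      have hact0 : act 1 r = r := Subtype.ext (by show ((1 : P) : G) * r * ((1 : P) : G)⁻¹ = r; simp)
      have htx : act x t = t := by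
        rw [map_prod]
        have h1 : ∀ i, act x (act (x ^ i) r) = act (x ^ (i + 1)) r := fun i => by rw [← hact, pow_succ']
        rw [Finset.prod_congr rfl fun i _ => h1 i]
        have h2 := Finset.prod_range_succ' (fun i => act (x ^ i) r) m
        rw [Finset.prod_range_succ, pow_zero, show x ^ m = 1 from pow_orderOf_eq_one x] at h2
        exact (mul_right_cancel h2).symm
      have ht1 : t = 1 := hfixbot t (hfix x x.2 (fun h => hx1 (Subtype.ext h)) t t.2
        (mul_inv_eq_iff_eq_mul.mp (congrArg Subtype.val htx)))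
      have h3 : lam r ^ m = 1 := by
        rw [← map_one lam, ← ht1, map_prod, Finset.prod_congr rfl fun i _ => hpowx i, Finset.prod_const,
          Finset.card_range]
      have h5 : orderOf (lam r) = 1 := Nat.eq_one_of_dvd_coprimes hcop
        ((orderOf_dvd_of_pow_eq_one h3).trans (orderOf_dvd_natCard x))
        ((orderOf_map_dvd lam r).trans (orderOf_dvd_natCard r))
      rw [orderOf_eq_one_iff.mp h5, Units.val_one]
    have hirr : ∀ x : P, IsIrrCharacter R fun r => (ψ : R → ℂ) (act x r) := fun x => by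
      refine isIrrCharacter_comp_surjective ψ.2 (act x) fun r => ⟨act x⁻¹ r, ?_⟩
      rw [← hact, mul_inv_cancel]
      exact Subtype.ext (by show ((1 : P) : G) * r * ((1 : P) : G)⁻¹ = r; simp)
    let orb : P → IrrCharacter R := fun x => ⟨_, hirr x⟩
    have horb : Function.Injective orb := by
      intro x y hxy
      refine mul_inv_eq_one.mp (hstab (x * y⁻¹) fun r => ?_)
      have h := congrFun (congrArg Subtype.val hxy) (act y⁻¹ r)
      simp only [orb, hlam] at h
      refine Units.ext ?_
      rw [hact, h, ← hact, mul_inv_cancel]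
      congr 2
      exact Subtype.ext (by show ((1 : P) : G) * r * ((1 : P) : G)⁻¹ = r; simp)
    have hmu' : ∀ x : P, mu (orb x) ≠ 0 := by
      intro x h0
      apply hψm
      have key : ∀ φ : IrrCharacter R, (mu φ : ℂ) = classInner (fun r : R => χ r) (φ : R → ℂ) := fun φ => by
        rw [hmu, classInner_sum_irr]
      have h1 := key (orb x)
      rw [h0, Nat.cast_zero] at h1
      have : (mu ψ : ℂ) = 0 := by
        rw [h1, key]
        simp only [classInner, orb]
        congr 1
        refine (Fintype.sum_bijective (act x) ?_ _ _ fun r => ?_).symm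
        · refine (Finite.injective_iff_bijective).mp fun a b h => ?_
          exact Subtype.ext (mul_left_cancel (mul_right_cancel (congrArg Subtype.val h :)))
        · have h3 : χ ((x : G) * (r : G) * (x : G)⁻¹) = χ r := isClassFunction_of_isCharacter hχ r x
          show χ r * _ = χ ((x : G) * (r : G) * (x : G)⁻¹) * _
          rw [h3]
      exact_mod_cast this
    have hle : Nat.card P ≤ d := by
      rw [hsum, Nat.card_eq_fintype_card, Fintype.card_eq_sum_ones,
        ← Finset.sum_image (f := fun _ => 1) fun x _ y _ h => horb h]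
      refine (Finset.sum_le_sum fun φ hφ => ?_).trans (Finset.sum_le_sum_of_subset (Finset.subset_univ _))
      obtain ⟨x, -, rfl⟩ := Finset.mem_image.mp hφ
      have : dg (orb x) = 1 := by
        have h := hdg (orb x)
        have h1 : ((orb x : IrrCharacter R) : R → ℂ) 1 = 1 := by
          show (ψ : R → ℂ) (act x 1) = 1
          rw [map_one, hlam]; simp
        rw [h1] at h
        exact_mod_cast h.symm
      rw [this, mul_one]
      exact Nat.one_le_iff_ne_zero.mpr (hmu' x)
    nlinarith
  · -- nonabelian: a fully ramified constituent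
    push Not at hab
    obtain ⟨a, ha, b, hb, hne⟩ := hab
    obtain ⟨ψ, hψm, hψ⟩ := hex ⁅(⟨a, ha⟩ : R), ⟨b, hb⟩⁆ (fun h => hne (by
      rw [commutatorElement_eq_one_iff_mul_comm] at h
      exact congrArg Subtype.val h))
    obtain ⟨n, ρ, hρ, hρχ⟩ := id ψ.2
    haveI := hρ
    have hn : dg ψ = n := by
      have h := hdg ψ
      rw [← hρχ, Representation.char_one, Module.finrank_fin_fun] at h
      exact_mod_cast h.symm
    have hdle : dg ψ ≤ d := by
      rw [hsum]
      exact le_trans (Nat.le_mul_of_pos_left _ (Nat.pos_of_ne_zero hψm))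
        (Finset.single_le_sum (f := fun φ => mu φ * dg φ) (fun φ _ => Nat.zero_le _) (Finset.mem_univ ψ))
    -- the commutators are central, fixed by `P`
    have hz : ∀ u v w : R, ⁅u, v⁆ * w = w * ⁅u, v⁆ := fun u v w =>
      Subtype.ext (hcent _ (⁅u, v⁆ : R).2 (hcomm u u.2 v v.2) w w.2)
    have hmul : ∀ u v w : R, ⁅u * v, w⁆ = ⁅u, w⁆ * ⁅v, w⁆ := fun u v w => by
      calc ⁅u * v, w⁆ = u * ⁅v, w⁆ * u⁻¹ * ⁅u, w⁆ := by simp only [commutatorElement_def]; group
        _ = ⁅v, w⁆ * ⁅u, w⁆ := by rw [← hz v w u, mul_inv_cancel_right]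
        _ = ⁅u, w⁆ * ⁅v, w⁆ := hz v w _
    let A : Subgroup R :=
      { carrier := {u | ∀ w, ρ ⁅u, w⁆ = 1}
        one_mem' := fun w => by simp
        mul_mem' := fun hu hv w => by rw [hmul, map_mul, hu, hv, one_mul]
        inv_mem' := fun {u} hu w => by
          have h := hmul u u⁻¹ w
          rw [mul_inv_cancel, commutatorElement_one_left] at h
          have h2 := congrArg ρ h
          rw [map_one, map_mul, hu, one_mul] at h2
          exact h2.symm }
    have hzero : ∀ u : R, u ∉ A → (ψ : R → ℂ) u = 0 := by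
      intro u hu
      obtain ⟨w, hw⟩ := not_forall.mp hu
      obtain ⟨ω, hω⟩ := schur_scalar ρ (ρ ⁅u, w⁆) fun v => by rw [← map_mul, ← map_mul, hz]
      have hω1 : ω ≠ 1 := fun h => hw (by rw [hω, h, one_smul]; rfl)
      have h1 := isClassFunction_of_isCharacter ψ.2.isCharacter u w
      rw [← hρχ] at h1 ⊢
      have h2 : w * u * w⁻¹ = ⁅u, w⁆⁻¹ * u := by rw [commutatorElement_def]; group
      have h4 : ρ.character u = ω * ρ.character (w * u * w⁻¹) := by
        conv_lhs => rw [show u = ⁅u, w⁆ * (w * u * w⁻¹) by rw [h2, mul_inv_cancel_left]]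
        simp only [Representation.character]
        rw [map_mul, hω, Module.End.mul_eq_comp, LinearMap.smul_comp, LinearMap.id_comp, map_smul, smul_eq_mul]
      rw [h1] at h4
      by_contra h0
      exact hω1 (mul_right_cancel₀ h0 (h4.symm.trans (one_mul _).symm))
    have hscal : ∀ u ∈ A, ‖(ψ : R → ℂ) u‖ = (dg ψ : ℝ) := by
      intro u hu
      obtain ⟨ω, hω⟩ := schur_scalar ρ (ρ u) fun v => by
        rw [← map_mul, ← map_mul, show u * v = ⁅u, v⁆ * (v * u) by rw [commutatorElement_def]; group,
          map_mul, hu, one_mul]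
      rw [← hρχ, (norm_eq_iff_scalar ρ u).mpr ⟨ω, hω⟩, hn, Module.finrank_fin_fun]
    have hsq : Nat.card A * dg ψ ^ 2 = Nat.card R := by
      have h := classInner_irr_self ψ.2
      rw [classInner, inv_mul_eq_iff_eq_mul₀ (Nat.cast_ne_zero.mpr Nat.card_pos.ne'), mul_one] at h
      have h' : ((Nat.card A * dg ψ ^ 2 : ℕ) : ℂ) = (Nat.card R : ℂ) := by
        rw [← h, ← Finset.sum_subset (Finset.subset_univ (univ.filter (· ∈ A))) fun u _ hu => by
          rw [hzero u fun h => hu (Finset.mem_filter.mpr ⟨Finset.mem_univ _, h⟩), zero_mul]]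
        rw [Finset.sum_congr rfl (g := fun _ => ((dg ψ : ℂ)) ^ 2) fun u hu => by
          rw [Complex.mul_conj', hscal u (Finset.mem_filter.mp hu).2]; push_cast; ring]
        rw [Finset.sum_const, nsmul_eq_mul, ← Fintype.card_subtype, ← Nat.card_eq_fintype_card]
        push_cast; rfl
      exact_mod_cast h'
    have hAR : A ≠ ⊤ := by
      intro hA
      rw [hA, card_top] at hsq
      have h1 : dg ψ = 1 := by
        have hR : 0 < Nat.card R := Nat.card_pos
        exact (Nat.pow_eq_one.mp (Nat.eq_of_mul_eq_mul_left hR (hsq.trans (mul_one _).symm))).resolve_right two_ne_zero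
      obtain ⟨l, hl⟩ := exists_hom_of_degree_one ψ.2.isCharacter (by rw [hdg, h1]; simp)
      refine hψ ?_
      rw [hl]
      show (l _ : ℂ) = (l 1 : ℂ)
      congr 1
      rw [map_one, map_commutatorElement, commutatorElement_eq_one_iff_mul_comm]
      exact mul_comm _ _
    set K := A.map R.subtype with hK
    have hKP : P ≤ normalizer (K : Set G) := by
      have key : ∀ x ∈ P, ∀ g ∈ K, x * g * x⁻¹ ∈ K := by
        rintro x hx _ ⟨u, hu, rfl⟩
        refine ⟨⟨_, hconjR x hx u u.2⟩, fun w => ?_, rfl⟩
        set v : R := ⟨x⁻¹ * w * x⁻¹⁻¹, hconjR _ (inv_mem hx) w w.2⟩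
        have e : ⁅(⟨_, hconjR x hx u u.2⟩ : R), w⁆ = ⁅u, v⁆ := by
          refine Subtype.ext ?_
          have h1 : x * ⁅(u : G), (v : G)⁆ * x⁻¹ = ⁅(u : G), (v : G)⁆ := by
            rw [mem_centralizer_iff.mp (hcomm u u.2 v v.2) x hx, mul_inv_cancel_right]
          show ⁅x * (u : G) * x⁻¹, (w : G)⁆ = ⁅(u : G), (v : G)⁆
          rw [← h1]
          show _ = x * ⁅(u : G), x⁻¹ * (w : G) * x⁻¹⁻¹⁆ * x⁻¹
          simp only [commutatorElement_def]; group
        rw [e]; exact hu v
      intro x hx
      rw [mem_normalizer_iff]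
      refine fun g => ⟨key x hx g, fun h => ?_⟩
      have := key x⁻¹ (inv_mem hx) _ h
      simpa [mul_assoc] using this
    have hKc : K ≤ centralizer (P : Set G) := hmin K (map_subtype_le A) hKP fun h => hAR (by
      refine top_le_iff.mp fun u _ => ?_
      obtain ⟨u', hu', he⟩ := (h.symm.le u.2 : (u : G) ∈ K)
      rwa [R.subtype_injective he] at hu')
    have hCA : ∀ u : R, (u : G) ∈ centralizer (P : Set G) → u ∈ A := fun u hu w => by
      rw [show ⁅u, w⁆ = 1 from commutatorElement_eq_one_iff_mul_comm.mpr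
        (Subtype.ext (hcent u u.2 hu w w.2)), map_one]
    -- free action on the quotient
    obtain ⟨r, hr⟩ : ∃ r : R, r ∉ A := by
      by_contra h
      push Not at h
      exact hAR (top_le_iff.mp fun u _ => h u)
    let f : Option P → R ⧸ A := fun o => o.elim (QuotientGroup.mk 1)
      fun x => QuotientGroup.mk ⟨_, hconjR x x.2 r r.2⟩
    have hAmem : ∀ u : R, u ∈ A → (u : G) ∈ centralizer (P : Set G) := fun u hu => hKc ⟨u, hu, rfl⟩
    have hnot : ∀ x : P, (⟨_, hconjR x x.2 r r.2⟩ : R) ∉ A := fun x h => hr (hCA r (by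
      have hc := mem_centralizer_iff.mp (hAmem _ h)
      have hr2 : (r : G) = (x : G)⁻¹ * ((x : G) * r * (x : G)⁻¹) * x := by group
      have h5 : (x : G)⁻¹ * ((x : G) * r * (x : G)⁻¹) * x = (x : G) * r * (x : G)⁻¹ := by
        rw [hc _ (inv_mem x.2)]; group
      rw [hr2, h5]
      exact hAmem _ h))
    have hf : Function.Injective f := by
      rintro (_ | x) (_ | y) hxy
      · rfl
      · exfalso
        simp only [f, Option.elim] at hxy
        exact hnot y (by simpa using (QuotientGroup.eq.mp hxy))
      · exfalso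
        simp only [f, Option.elim] at hxy
        exact hnot x (by simpa using (QuotientGroup.eq.mp hxy.symm))
      · simp only [f, Option.elim, Option.some.injEq] at hxy ⊢
        have h := QuotientGroup.eq.mp hxy
        by_contra hne'
        -- a fixed coset
        set z : P := x⁻¹ * y with hzdef
        have hz1 : (z : G) ≠ 1 := fun h => hne' (inv_mul_eq_one.mp (Subtype.ext h))
        have hc := mem_centralizer_iff.mp (hAmem _ h)
        set u : G := ((x : G) * r * (x : G)⁻¹)⁻¹ * ((y : G) * r * (y : G)⁻¹)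
        have huR : ((⟨_, hconjR x x.2 r r.2⟩ : R)⁻¹ * ⟨_, hconjR y y.2 r r.2⟩ : R).1 = u := rfl
        rw [huR] at hc
        have hzr : (z : G) * r * (z : G)⁻¹ = r * u := by
          calc (z : G) * r * (z : G)⁻¹ = (x : G)⁻¹ * ((x : G) * r * (x : G)⁻¹) * u * x := by
                simp only [hzdef, u, Subgroup.coe_mul, Subgroup.coe_inv]; group
            _ = (r : G) * ((x : G)⁻¹ * u) * x := by group
            _ = r * u := by rw [hc _ (inv_mem x.2)]; group
        have hpow : ∀ i : ℕ, (z : G) ^ i * r * ((z : G) ^ i)⁻¹ = r * u ^ i := by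
          intro i
          induction i with
          | zero => simp
          | succ i ih =>
            calc (z : G) ^ (i + 1) * r * ((z : G) ^ (i + 1))⁻¹
                = (z : G) * ((z : G) ^ i * r * ((z : G) ^ i)⁻¹) * (z : G)⁻¹ := by rw [pow_succ']; group
              _ = ((z : G) * r * (z : G)⁻¹) * ((z : G) * u ^ i * (z : G)⁻¹) := by rw [ih]; group
              _ = r * u ^ (i + 1) := by
                have hcz : Commute (z : G) (u ^ i) := (show Commute (z : G) u from hc _ z.2).pow_right i
                rw [hzr, hcz.eq, mul_inv_cancel_right, pow_succ', mul_assoc]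
        have hum : u ^ orderOf z = 1 := by
          have := hpow (orderOf z)
          rw [show (z : G) ^ orderOf z = 1 by rw [← Subgroup.orderOf_coe]; exact pow_orderOf_eq_one _] at this
          simpa using this
        have huR' : u ∈ R := huR ▸ SetLike.coe_mem _
        have hu1 : u = 1 := orderOf_eq_one_iff.mp (Nat.eq_one_of_dvd_coprimes hcop
          ((orderOf_dvd_of_pow_eq_one hum).trans (orderOf_dvd_natCard z))
          ((Subgroup.orderOf_mk u huR').symm ▸ orderOf_dvd_natCard (⟨u, huR'⟩ : R)))
        rw [hu1, mul_one] at hzr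
        exact hr (hCA r (hfix z z.2 hz1 r r.2 (mul_inv_eq_iff_eq_mul.mp hzr)))
    have hlt : Nat.card P < A.index := by
      have h := Nat.card_le_card_of_injective f hf
      rw [Finite.card_option] at h
      exact Nat.lt_of_succ_le h
    have hidx : A.index = dg ψ ^ 2 := by
      refine Nat.eq_of_mul_eq_mul_left (Nat.card_pos (α := A)) ?_
      rw [A.card_mul_index, hsq]
    calc Nat.card P < A.index := hlt
      _ ≤ d ^ 2 := hidx ▸ Nat.pow_le_pow_left hdle 2

end Action

/-- A faithful character of degree at most `√|P|` forces a TI Sylow subgroup to be normal. -/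
theorem normal_of_ti_small_degree (hsol : IsPSolvable p G) (P : Sylow p G)
    (hTI : ∀ g : G, g ∉ normalizer ((P : Subgroup G) : Set G) →
      (P : Subgroup G) ⊓ (MulAut.conj g • (P : Subgroup G)) = ⊥)
    {χ : G → ℂ} (hχ : IsCharacter G χ) (hfaith : ∀ g : G, χ g = χ 1 → g = 1) {d : ℕ} (hd : χ 1 = d)
    (hdeg : d ^ 2 ≤ Nat.card (P : Subgroup G)) : (P : Subgroup G).Normal := by
  set P' := (P : Subgroup G)
  by_contra hnn
  have hO : pCore p G = ⊥ := by
    obtain ⟨g, hg⟩ : ∃ g, g ∉ normalizer (P' : Set G) := by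
      by_contra hh
      push Not at hh
      exact hnn (normalizer_eq_top_iff.mp (top_le_iff.mp fun g _ => hh g))
    rw [← le_bot_iff, ← hTI g hg]
    have hle : ∀ Q : Sylow p G, pCore p G ≤ (Q : Subgroup G) := fun Q =>
      Solv.pCore_le_sylow p Q
    refine le_inf (hle P) ?_
    rw [show (MulAut.conj g • P' : Subgroup G) = ((g • P : Sylow p G) : Subgroup G) from (Sylow.coe_subgroup_smul).symm]
    exact hle _
  set N := pPrimeCore p G with hN
  have hPN : P' ≤ normalizer (N : Set G) := le_top.trans (normalizer_eq_top_iff.mpr inferInstance).ge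
  have hcopN : (Nat.card P').Coprime (Nat.card N) := by
    obtain ⟨k, hk⟩ := P.isPGroup'.exists_card_eq
    rw [hk]
    exact ((Solv.coprime_pPrimeCore p).symm).pow_left k
  have hPsolv : Group.IsSolvable P' := by
    haveI := P.isPGroup'.isNilpotent
    infer_instance
  have hdisj : ∀ g ∈ N, g ∈ P' → g = 1 := fun g hg hgP => orderOf_eq_one_iff.mp
    (Nat.eq_one_of_dvd_coprimes hcopN (orderOf_mk g hgP ▸ orderOf_dvd_natCard _)
      (orderOf_mk g hg ▸ orderOf_dvd_natCard _))
  have hTI' : ∀ x ∈ P', x ≠ 1 → ∀ r ∈ N, x * r = r * x → r ∈ centralizer (P' : Set G) := by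
    intro x hx hx1 r hr hxr
    have hrN : r ∈ normalizer (P' : Set G) := by
      by_contra h
      refine hx1 ((mem_bot).mp (hTI r h ▸ mem_inf.mpr ⟨hx, ?_⟩))
      refine mem_pointwise_smul_iff_inv_smul_mem.mpr ?_
      rw [MulAut.smul_def, MulAut.inv_apply, MulAut.conj_symm_apply, mul_assoc, hxr, inv_mul_cancel_left]
      exact hx
    rw [mem_centralizer_iff]
    intro y hy
    have h1 : r * y * r⁻¹ * y⁻¹ = 1 := by
      refine hdisj _ ?_ (mul_mem ((mem_normalizer_iff.mp hrN y).mp hy) (inv_mem hy))
      rw [mul_assoc r y r⁻¹, mul_assoc r]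
      exact mul_mem hr ((mem_normalizer_iff.mp (hPN hy) _).mp (inv_mem hr))
    exact (mul_inv_eq_iff_eq_mul.mp (mul_inv_eq_one.mp h1)).symm
  -- some invariant Sylow subgroup of the core is moved
  obtain ⟨q, hqF, Q, hQn, hQc⟩ : ∃ (q : ℕ) (_ : Fact q.Prime) (Q : Sylow q N),
      P' ≤ normalizer (((Q : Subgroup N).map N.subtype : Subgroup G) : Set G) ∧
      ¬ (Q : Subgroup N).map N.subtype ≤ centralizer (P' : Set G) := by
    by_contra hh
    push Not at hh
    have htop : (centralizer (P' : Set G)).subgroupOf N = ⊤ := by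
      refine Solv.eq_top_of_forall_sylow_le fun q hq _ => ?_
      haveI := Fact.mk hq
      obtain ⟨Q, hQ⟩ := Solv.exists_invariant_sylow P' N hPN hcopN (Or.inl hPsolv) q
      exact ⟨Q, fun u hu => hh q ‹_› Q hQ ⟨u, hu, rfl⟩⟩
    have hPC : P' ≤ centralizer (N : Set G) := fun x hx => mem_centralizer_iff.mpr fun r hr =>
      ((mem_centralizer_iff.mp (show (⟨r, hr⟩ : N) ∈ (centralizer (P' : Set G)).subgroupOf N from
        htop ▸ mem_top _)) x hx).symm
    have hbot : P' = ⊥ := le_bot_iff.mp fun x hx => mem_bot.mpr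
      (hdisj x (centralizer_pPrimeCore_le hsol hO (hPC hx)) hx)
    exact hnn (hbot ▸ normal_bot)
  obtain ⟨R, ⟨hRle, hRn, hRc⟩, hRmin⟩ := (Set.toFinite {K : Subgroup G | K ≤ (Q : Subgroup N).map N.subtype ∧
    P' ≤ normalizer (K : Set G) ∧ ¬ K ≤ centralizer (P' : Set G)}).exists_minimalFor id _ ⟨_, le_rfl, hQn, hQc⟩
  have hRN : R ≤ N := hRle.trans (map_subtype_le _)
  have hRq : IsPGroup q R := (Q.isPGroup'.map _).to_le hRle
  have hcopR : (Nat.card P').Coprime (Nat.card R) := hcopN.coprime_dvd_right (card_dvd_of_le hRN)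
  have hmin : ∀ K : Subgroup G, K ≤ R → P' ≤ normalizer (K : Set G) → K ≠ R → K ≤ centralizer (P' : Set G) := by
    intro K hKR hKn hne
    by_contra h
    exact hne (le_antisymm hKR (hRmin ⟨hKR.trans hRle, hKn, h⟩ hKR))
  have hgen : ⁅R, P'⁆ = R := by
    by_contra hne
    have h1 := hmin _ (Solv.commutator_le_of_normalizes hRn) (Solv.le_normalizer_commutator_right R P') hne
    have h2 := Solv.commutator_commutator_eq P' R hRn hcopR (Or.inl hPsolv)
    rw [commutator_eq_bot_iff_le_centralizer.mpr h1] at h2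
    exact hRc (commutator_eq_bot_iff_le_centralizer.mp h2.symm)
  have hcomm : ∀ a ∈ R, ∀ b ∈ R, ⁅a, b⁆ ∈ centralizer (P' : Set G) := by
    have hnR : P' ≤ normalizer ((⁅R, R⁆ : Subgroup G) : Set G) := by
      intro x hx
      rw [← Solv.conj_smul_eq_self_iff]
      have h : R.map (MulAut.conj x).toMonoidHom = R := Solv.conj_smul_eq_self_iff.mpr (hRn hx)
      show (⁅R, R⁆ : Subgroup G).map (MulAut.conj x).toMonoidHom = _
      rw [map_commutator, h]
    have hne : ⁅R, R⁆ ≠ R := by
      intro h
      haveI := hRq.isNilpotent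
      haveI : Group.IsSolvable R := inferInstance
      haveI : Nontrivial R := (nontrivial_iff_ne_bot R).mpr fun hb => hRc (hb ▸ bot_le)
      apply (IsSolvable.commutator_lt_top_of_nontrivial R).ne
      apply map_injective R.subtype_injective
      rw [map_subtype_commutator, h, ← MonoidHom.range_eq_map, range_subtype]
    exact fun a ha b hb => hmin _ (commutator_le.mpr fun a ha b hb => by
        rw [commutatorElement_def]; exact mul_mem (mul_mem (mul_mem ha hb) (inv_mem ha)) (inv_mem hb))
      hnR hne (commutator_mem_commutator ha hb)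
  have hlt := large_degree_of_free P.isPGroup'
    (fun h => hnn ((show P' = ⊥ from h) ▸ normal_bot)) hRn hcopR (fun hb => hRc (hb ▸ bot_le)) hgen hcomm
    (fun x hx hx1 r hr => hTI' x hx hx1 r (hRN hr)) hmin hχ hfaith hd
  exact absurd hdeg (not_le.mpr hlt)

end Cfsg.Lib.Characters
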