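import Cfsg.Agent.Lib.Characters.Extension
import Mathlib.GroupTheory.Sylow
import Mathlib.Data.ZMod.Basic

/-!
# Thompson's theorem on character degrees
-/

set_option linter.unusedSectionVars false
set_option linter.style.haveILetI false

open scoped ComplexConjugate

namespace Cfsg.Lib.Characters

/-- Modulo `p`, an invariant sum under a `p`-group is the sum over the fixed points. -/
theorem sum_modEq_sum_fixed {p : ℕ} [hp : Fact p.Prime] {P : Type*} [Group P] (hP : IsPGroup p P)
    {X : Type*} [Fintype X] [MulAction P X] (f : X → ZMod p) (hf : ∀ (g : P) x, f (g • x) = f x)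
    [DecidablePred fun x : X => x ∈ MulAction.fixedPoints P X] :
    ∑ x, f x = ∑ x with x ∈ MulAction.fixedPoints P X, f x := by
  classical
  haveI : Fintype (Quotient (MulAction.orbitRel P X)) := Fintype.ofFinite _
  rw [Finset.sum_filter,
    ← Finset.sum_fiberwise Finset.univ (Quotient.mk (MulAction.orbitRel P X)) f,
    ← Finset.sum_fiberwise Finset.univ (Quotient.mk (MulAction.orbitRel P X))
      fun x => if x ∈ MulAction.fixedPoints P X then f x else 0]
  refine Finset.sum_congr rfl fun q _ => ?_
  induction q using Quotient.inductionOn with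
  | h a =>
    have hfib : Finset.univ.filter (fun x => (⟦x⟧ : Quotient (MulAction.orbitRel P X)) = ⟦a⟧) =
        (MulAction.orbit P a).toFinset := by
      ext x
      rw [Finset.mem_filter, Set.mem_toFinset, Quotient.eq]
      exact ⟨fun h => h.2, fun h => ⟨Finset.mem_univ _, h⟩⟩
    rw [hfib]
    have hconst : ∀ x ∈ (MulAction.orbit P a).toFinset, f x = f a := by
      intro x hx
      obtain ⟨g, rfl⟩ := Set.mem_toFinset.mp hx
      exact hf g a
    obtain ⟨k, hk⟩ := hP.card_orbit a
    rw [Finset.sum_congr rfl hconst, Finset.sum_const, Set.toFinset_card,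
      ← Nat.card_eq_fintype_card]
    by_cases ha : a ∈ MulAction.fixedPoints P X
    · have : (MulAction.orbit P a).toFinset = {a} := by
        ext x
        rw [Set.mem_toFinset, Finset.mem_singleton]
        exact ⟨fun h => MulAction.mem_fixedPoints'.mp ha x h,
          fun h => by subst h; exact MulAction.mem_orbit_self x⟩
      rw [this, Finset.sum_singleton, if_pos ha]
      rw [show Nat.card (MulAction.orbit P a) = 1 by
        rw [Nat.card_eq_fintype_card, ← Set.toFinset_card, this, Finset.card_singleton], one_smul]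
    · have hnot : ∀ x ∈ (MulAction.orbit P a).toFinset, x ∉ MulAction.fixedPoints P X := by
        intro x hx hxf
        have h1 := MulAction.mem_fixedPoints'.mp hxf a
          (MulAction.mem_orbit_symm.mp (Set.mem_toFinset.mp hx))
        exact ha (h1 ▸ hxf)
      rw [Finset.sum_eq_zero fun x hx => if_neg (hnot x hx)]
      have hk0 : k ≠ 0 := by
        rintro rfl
        rw [pow_zero, Nat.card_eq_one_iff_unique] at hk
        refine ha (MulAction.mem_fixedPoints'.mpr fun x hx => ?_)
        have := hk.1.elim ⟨x, hx⟩ ⟨a, MulAction.mem_orbit_self a⟩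
        exact congrArg Subtype.val this
      rw [hk, nsmul_eq_mul, Nat.cast_pow, ZMod.natCast_self, zero_pow hk0, zero_mul]

/-- **Thompson**: if every nonlinear irreducible degree is a multiple of `p`, there is a normal
`p`-complement. -/
theorem normal_complement_of_degrees {G : Type*} [Group G] [Finite G] {p : ℕ} (hp : p.Prime)
    (hdeg : ∀ χ : G → ℂ, IsIrrCharacter G χ → ∀ d : ℕ, χ 1 = d → d ≠ 1 → p ∣ d) :
    ∃ N : Subgroup G, N.Normal ∧ (Nat.card N).Coprime p ∧ ∃ k : ℕ, N.index = p ^ k := by
  classical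
  haveI : Fact p.Prime := ⟨hp⟩
  -- the smallest normal subgroup of `p`-power index
  have hex : ∃ n, ∃ N : Subgroup G, N.Normal ∧ (∃ k : ℕ, N.index = p ^ k) ∧ Nat.card N = n :=
    ⟨_, ⊤, inferInstance, ⟨0, by simp⟩, rfl⟩
  obtain ⟨N, hN, ⟨k, hk⟩, hcard⟩ := Nat.find_spec hex
  haveI := hN
  refine ⟨N, hN, ?_, k, hk⟩
  rw [Nat.coprime_comm, hp.coprime_iff_not_dvd]
  intro hdvd
  -- invariant linear characters of `N` have order prime to `p`
  have hord : ∀ l : N →* ℂˣ, (∀ (g : G) (n : N), l (MulAut.conjNormal g n) = l n) →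
      l ^ p = 1 → l = 1 := by
    intro l hinv hl
    set K := l.ker.map N.subtype with hK
    have hKn : K.Normal := by
      refine ⟨fun x hx g => ?_⟩
      obtain ⟨n, hn, rfl⟩ := hx
      refine ⟨MulAut.conjNormal g n, ?_, by simp [MulAut.conjNormal_apply]⟩
      rw [SetLike.mem_coe, MonoidHom.mem_ker, hinv]
      exact MonoidHom.mem_ker.mp hn
    have hpow : ∀ x : N, l x ^ p = 1 := fun x => by
      simpa using DFunLike.congr_fun hl x
    have hpg : IsPGroup p (N ⧸ l.ker) := fun q => ⟨1, by
      induction q using QuotientGroup.induction_on with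
      | H z =>
        rw [pow_one, ← QuotientGroup.mk_pow, QuotientGroup.eq_one_iff, MonoidHom.mem_ker,
          map_pow, hpow]⟩
    obtain ⟨j, hj⟩ := hpg.exists_card_eq
    have hidx : K.index = p ^ (j + k) := by
      rw [hK, Subgroup.index_map_subtype, pow_add, ← hj, hk, Subgroup.index_eq_card]
    have hge := Nat.find_min' hex ⟨K, hKn, ⟨_, hidx⟩, rfl⟩
    replace hge : Nat.card N ≤ Nat.card K := hcard.le.trans hge
    have hle : K ≤ N := Subgroup.map_subtype_le _
    have hKN : K = N := Subgroup.eq_of_le_of_card_ge hle hge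
    ext n
    have : (n : G) ∈ K := by rw [hKN]; exact n.2
    obtain ⟨m, hm, hmn⟩ := this
    rw [Subtype.ext hmn] at hm
    simpa using hm
  haveI := Fintype.ofFinite G
  haveI := Fintype.ofFinite N
  -- a Sylow subgroup covers the quotient
  let P : Sylow p G := default
  have hPN : (P : Subgroup G) ⊔ N = ⊤ := by
    have h1 : ((P : Subgroup G) ⊔ N).index ∣ (P : Subgroup G).index :=
      Subgroup.index_dvd_of_le le_sup_left
    have h2 : ((P : Subgroup G) ⊔ N).index ∣ p ^ k := hk ▸ Subgroup.index_dvd_of_le le_sup_right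
    have h3 : Nat.Coprime (p ^ k) (P : Subgroup G).index := by
      refine (Nat.Coprime.pow_left k ?_)
      rw [hp.coprime_iff_not_dvd]
      exact P.not_dvd_index
    exact Subgroup.index_eq_one.mp (Nat.eq_one_of_dvd_coprimes h3 h2 h1)
  letI act : MulAction (P : Subgroup G) (IrrCharacter N) :=
    { smul := fun g χ => ⟨conjFn N χ.1 (g : G)⁻¹, isIrrCharacter_conjFn χ.2 _⟩
      one_smul := fun χ => Subtype.ext (by
        show conjFn N χ.1 ((1 : (P : Subgroup G)) : G)⁻¹ = χ.1
        simp)
      mul_smul := fun a b χ => Subtype.ext (by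
        show conjFn N χ.1 ((a * b : (P : Subgroup G)) : G)⁻¹ =
          conjFn N (conjFn N χ.1 (b : G)⁻¹) (a : G)⁻¹
        rw [conjFn_conjFn]
        simp) }
  have hfix : ∀ χ : IrrCharacter N, χ ∈ MulAction.fixedPoints (P : Subgroup G) (IrrCharacter N) →
      ∀ g : G, conjFn N χ.1 g = χ.1 := by
    intro χ hχ g
    have hle : (P : Subgroup G) ⊔ N ≤ inertia N χ.1 := by
      refine sup_le (fun x hx => ?_) (le_inertia χ.2.isClassFunction)
      have : conjFn N χ.1 ((x : G)⁻¹)⁻¹ = χ.1 :=
        congrArg Subtype.val (hχ ⟨x⁻¹, inv_mem hx⟩)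
      rw [mem_inertia]
      simpa using this
    rw [hPN] at hle
    exact mem_inertia.mp (hle (Subgroup.mem_top g))
  choose dg hdg using fun χ : IrrCharacter N => exists_degree χ.2.isCharacter
  -- the count modulo `p`
  have hsum : ((∑ χ, dg χ ^ 2 : ℕ) : ZMod p) = 0 := by
    have : ∑ χ, dg χ ^ 2 = Nat.card N := by
      have h := sum_sq_degree (G := N)
      simp only [hdg] at h
      exact_mod_cast h
    rw [this, ZMod.natCast_eq_zero_iff]
    exact hdvd
  rw [Nat.cast_sum, sum_modEq_sum_fixed P.isPGroup' (fun χ => ((dg χ ^ 2 : ℕ) : ZMod p))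
    (fun g χ => by
      have h1 : ((g • χ).1) 1 = χ.1 1 := by
        show conjFn N χ.1 (g : G)⁻¹ 1 = χ.1 1
        rw [conjFn_apply]
        exact congrArg χ.1 (Subtype.ext (by simp))
      rw [hdg, hdg, Nat.cast_inj] at h1
      rw [h1])] at hsum
  -- the invariant linear characters
  let L : Subgroup (N →* ℂˣ) :=
    { carrier := {l | ∀ (g : G) (n : N), l (MulAut.conjNormal g n) = l n}
      one_mem' := fun _ _ => rfl
      mul_mem' := fun {a b} ha hb g n => by simp [ha g n, hb g n]
      inv_mem' := fun {a} ha g n => by simp [ha g n] }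
  haveI : Finite (N →* ℂˣ) := by
    refine Finite.of_injective (fun l => (⟨fun n => (l n : ℂ), isIrrCharacter_linear l⟩ :
      IrrCharacter N)) fun a b h => MonoidHom.ext fun n => Units.ext ?_
    exact congrFun (congrArg Subtype.val h) n
  have hL : ¬ p ∣ Nat.card L := by
    intro h
    obtain ⟨⟨l, hl⟩, hlo⟩ := exists_prime_orderOf_dvd_card' p h
    have h1 := hord l hl (by
      have := pow_orderOf_eq_one (⟨l, hl⟩ : L)
      rw [hlo] at this
      exact congrArg Subtype.val this)
    subst h1
    rw [show (⟨1, hl⟩ : L) = 1 from rfl, orderOf_one] at hlo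
    exact hp.ne_one hlo.symm
  set F := Finset.univ.filter fun χ : IrrCharacter N =>
    χ ∈ MulAction.fixedPoints (P : Subgroup G) (IrrCharacter N)
  set F1 := F.filter fun χ => dg χ = 1
  have hF1 : F1.card = Nat.card L := by
    rw [← Nat.card_eq_finsetCard]
    refine (Nat.card_congr (Equiv.ofBijective (fun l : L =>
      (⟨⟨fun n => (l.1 n : ℂ), isIrrCharacter_linear l.1⟩, ?_⟩ : F1)) ⟨?_, ?_⟩)).symm
    · simp only [F1, F, Finset.mem_filter, Finset.mem_univ, true_and]
      refine ⟨fun g => Subtype.ext ?_, ?_⟩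
      · show conjFn N (fun n => (l.1 n : ℂ)) (g : G)⁻¹ = _
        rw [conjFn_eq_comp]
        funext n
        rw [l.2]
      · have := hdg ⟨fun n => (l.1 n : ℂ), isIrrCharacter_linear l.1⟩
        simp only [map_one, Units.val_one] at this
        exact_mod_cast this.symm
    · intro a b h
      refine Subtype.ext (MonoidHom.ext fun n => Units.ext ?_)
      exact congrFun (congrArg (fun x : F1 => (x.1).1) h) n
    · rintro ⟨χ, hχ⟩
      simp only [F1, F, Finset.mem_filter, Finset.mem_univ, true_and] at hχ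
      obtain ⟨l, hl⟩ := exists_hom_of_degree_one χ.2.isCharacter (by rw [hdg, hχ.2]; simp)
      refine ⟨⟨l, fun g n => Units.ext ?_⟩, Subtype.ext (Subtype.ext hl.symm)⟩
      have := congrFun (hfix χ hχ.1 g) n
      rw [conjFn_eq_comp] at this
      rw [hl] at this
      exact this
  -- a nonlinear invariant character of degree prime to `p`
  obtain ⟨χ, hχF, hχ1, hχp⟩ : ∃ χ ∈ F, dg χ ≠ 1 ∧ ¬ p ∣ dg χ := by
    by_contra hcon
    push Not at hcon
    have : (Nat.card L : ZMod p) = 0 := by
      rw [← hF1, ← hsum, ← Finset.sum_filter_add_sum_filter_not F fun χ => dg χ = 1]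
      have h0 : ∑ χ ∈ F with ¬ dg χ = 1, ((dg χ ^ 2 : ℕ) : ZMod p) = 0 :=
        Finset.sum_eq_zero fun χ hχ => by
          obtain ⟨h1, h2⟩ := Finset.mem_filter.mp hχ
          rw [ZMod.natCast_eq_zero_iff]
          exact dvd_pow (hcon χ h1 h2) two_ne_zero
      rw [h0, add_zero, Finset.sum_congr rfl (g := fun _ => (1 : ZMod p)) fun χ hχ => by
        rw [(Finset.mem_filter.mp hχ).2]; simp]
      simp [F1]
    exact hL ((ZMod.natCast_eq_zero_iff _ _).mp this)
  have hinv := hfix χ (Finset.mem_filter.mp hχF).2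
  obtain ⟨D, hD, -⟩ := exists_detHom χ.2.isCharacter
  have hDinv : D ∈ L := fun g n => Units.ext (by
    rw [hD, hD]
    have := detChar_comp χ.2.isCharacter (MulAut.conjNormal g : N ≃* N).toMonoidHom n
    have hfun : (fun y => χ.1 ((MulAut.conjNormal g : N ≃* N).toMonoidHom y)) = χ.1 := by
      exact (conjFn_eq_comp χ.1 g).symm.trans (hinv g)
    rw [hfun] at this
    exact this.symm)
  obtain ⟨η, hη, hηN⟩ := exists_extension_of_coprime χ.2 hinv (hdg χ) (m := Nat.card L)
    (fun n => by
      rw [← hD, ← Units.val_pow_eq_pow_val]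
      have := congrArg Subtype.val (pow_card_eq_one' (x := (⟨D, hDinv⟩ : L)))
      have := DFunLike.congr_fun this n
      simp only [SubgroupClass.coe_pow, MonoidHom.pow_apply, OneMemClass.coe_one,
        MonoidHom.one_apply] at this
      rw [this, Units.val_one])
    (by
      rw [hk]
      refine Nat.Coprime.pow_left k ?_
      rw [hp.coprime_iff_not_dvd]
      exact fun h => (hp.dvd_mul.mp h).elim hχp hL)
  refine hχp (hdeg η hη (dg χ) ?_ hχ1)
  rw [← hdg χ, ← hηN]
  rfl

/-- A group all of whose irreducible characters are linear is abelian. -/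
theorem comm_of_linear {N : Type*} [Group N] [Finite N]
    (h : ∀ θ : IrrCharacter N, (θ : N → ℂ) 1 = 1) (a b : N) : a * b = b * a := by
  classical
  haveI := Fintype.ofFinite N
  set c := a * b * a⁻¹ * b⁻¹
  have hc : ∀ θ : IrrCharacter N, (θ : N → ℂ) c = 1 := by
    intro θ
    obtain ⟨l, hl⟩ := exists_hom_of_degree_one θ.2.isCharacter (h θ)
    simp only [hl, c, map_mul, map_inv]
    simp
  have hsum := column_orthogonality c (1 : N)
  have h1 : IsConj c 1 := by
    by_contra hne
    rw [if_neg hne] at hsum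
    simp only [hc, h, map_one, mul_one, Finset.sum_const, nsmul_eq_mul, Nat.cast_eq_zero] at hsum
    exact Finset.card_ne_zero.mpr ⟨⟨fun _ => 1, isIrrCharacter_one⟩, Finset.mem_univ _⟩ hsum
  rw [isConj_comm, isConj_one_right] at h1
  have h2 : a * b * a⁻¹ * b⁻¹ = 1 := h1
  calc a * b = a * b * a⁻¹ * b⁻¹ * (b * a) := by group
    _ = b * a := by rw [h2, one_mul]

end Cfsg.Lib.Characters
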